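import Mathlib.GroupTheory.PGroup
import Mathlib.GroupTheory.Nilpotent
import Mathlib.GroupTheory.Sylow

/-!
# Groups in which every involution centraliser is a 2-group: first consequences
-/

set_option autoImplicit false

namespace Cfsg.Agent.CITPair

open Subgroup

variable {G : Type*} [Group G]

/-- Every centraliser of an involution is a `2`-group. -/
def CIT (G : Type*) [Group G] : Prop :=
  ∀ t : G, orderOf t = 2 → IsPGroup 2 (centralizer ({t} : Set G))

/-- An element of a `2`-group of odd order is trivial. -/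
theorem eq_one_of_odd_mem {P : Subgroup G} (hP : IsPGroup 2 P) {x : G} (hx : x ∈ P)
    (ho : Odd (orderOf x)) : x = 1 := by
  obtain ⟨k, hk⟩ := hP ⟨x, hx⟩
  have hk' : x ^ 2 ^ k = 1 := congrArg Subtype.val hk
  obtain ⟨i, -, hi⟩ := (Nat.dvd_prime_pow Nat.prime_two).1 (orderOf_dvd_of_pow_eq_one hk')
  rcases i with _ | i
  · exact orderOf_eq_one_iff.1 (by simpa using hi)
  · rw [hi, Nat.odd_iff, pow_succ] at ho
    omega

/-- A finite subgroup without elements of odd order other than the identity is a `2`-group. -/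
theorem isPGroup_of_no_odd [Finite G] {H : Subgroup G}
    (h : ∀ x ∈ H, Odd (orderOf x) → x = 1) : IsPGroup 2 H := by
  intro x
  obtain ⟨k, m, hm, hd⟩ := Nat.exists_eq_pow_mul_and_not_dvd (orderOf_pos (x : G)).ne' 2 (by decide)
  refine ⟨k, Subtype.ext ?_⟩
  rw [SubmonoidClass.coe_pow, OneMemClass.coe_one]
  refine h _ (pow_mem x.2 _) ?_
  rw [orderOf_pow_of_dvd (by positivity) ⟨m, hd⟩, hd, Nat.mul_div_cancel_left _ (by positivity)]
  exact Nat.odd_iff.2 (by omega)

/-- A nontrivial element of a `2`-group has a power which is an involution. -/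
theorem exists_pow_orderOf_two {P : Subgroup G} (hP : IsPGroup 2 P) {y : G} (hy : y ∈ P)
    (hy1 : y ≠ 1) : ∃ n : ℕ, orderOf (y ^ n) = 2 := by
  obtain ⟨k, hk⟩ := hP ⟨y, hy⟩
  have hk' : y ^ 2 ^ k = 1 := congrArg Subtype.val hk
  obtain ⟨i, -, hi⟩ := (Nat.dvd_prime_pow Nat.prime_two).1 (orderOf_dvd_of_pow_eq_one hk')
  rcases i with _ | i
  · exact absurd (orderOf_eq_one_iff.1 (by simpa using hi)) hy1
  · refine ⟨2 ^ i, ?_⟩
    rw [orderOf_pow_of_dvd (by positivity) (by rw [hi]; exact pow_dvd_pow 2 (by omega)), hi, pow_succ,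
      Nat.mul_div_cancel_left _ (by positivity)]

/-- A nontrivial `2`-subgroup contains an involution. -/
theorem exists_invol {P : Subgroup G} (hP : IsPGroup 2 P) (h1 : P ≠ ⊥) :
    ∃ t ∈ P, orderOf t = 2 := by
  obtain ⟨y, hy, hy1⟩ := P.bot_or_exists_ne_one.resolve_left h1
  obtain ⟨n, hn⟩ := exists_pow_orderOf_two hP hy hy1
  exact ⟨y ^ n, pow_mem hy n, hn⟩

theorem mul_self_of_orderOf {t : G} (h : orderOf t = 2) : t * t = 1 := by
  rw [← pow_two, ← h, pow_orderOf_eq_one]

theorem inv_eq_self {t : G} (h : t * t = 1) : t⁻¹ = t :=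
  inv_eq_of_mul_eq_one_right h

/-- In a CIT group an element of odd order commuting with a nontrivial `2`-element is trivial. -/
theorem eq_one_of_odd_commute (hC : CIT G) {P : Subgroup G} (hP : IsPGroup 2 P) {y : G}
    (hy : y ∈ P) (hy1 : y ≠ 1) {x : G} (hxy : Commute x y) (ho : Odd (orderOf x)) : x = 1 := by
  obtain ⟨n, hn⟩ := exists_pow_orderOf_two hP hy hy1
  refine eq_one_of_odd_mem (hC _ hn) (mem_centralizer_singleton_iff.2 ?_) ho
  exact hxy.pow_right n

/-- In a CIT group the centraliser of a nontrivial `2`-subgroup is a `2`-group. -/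
theorem isPGroup_centralizer (hC : CIT G) {R : Subgroup G} (hR : IsPGroup 2 R) (h1 : R ≠ ⊥) :
    IsPGroup 2 (centralizer (R : Set G)) := by
  obtain ⟨t, ht, ho⟩ := exists_invol hR h1
  refine (hC t ho).to_le fun x hx => mem_centralizer_singleton_iff.2 ?_
  exact (mem_centralizer_iff.1 hx t ht).symm

/-- Normalisers grow in finite `p`-groups. -/
theorem exists_normalizing [Finite G] {p : ℕ} [Fact p.Prime] {P B : Subgroup G} (hP : IsPGroup p P)
    (h : B < P) : ∃ g ∈ P, g ∉ B ∧ g ∈ normalizer (B : Set G) := by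
  haveI := hP.isNilpotent
  obtain ⟨x, hx, hxB⟩ := SetLike.exists_of_lt
    (Group.normalizerCondition_of_isNilpotent (G := P) (B.subgroupOf P)
      (lt_top_iff_ne_top.2 fun e => h.not_ge (subgroupOf_eq_top.1 e)))
  refine ⟨x, x.2, fun e => hxB (mem_subgroupOf.2 e), mem_normalizer_iff.2 fun y => ⟨fun hy => ?_,
    fun hy => ?_⟩⟩
  · exact mem_subgroupOf.1 ((mem_normalizer_iff.1 hx ⟨y, h.le hy⟩).1 (mem_subgroupOf.2 hy))
  · have hyP : y ∈ P := by
      have := mul_mem (mul_mem (inv_mem x.2) (h.le hy)) x.2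
      simpa [mul_assoc] using this
    exact mem_subgroupOf.1 ((mem_normalizer_iff.1 hx ⟨y, hyP⟩).2 (mem_subgroupOf.2 hy))

/-- The conjugate `g B g⁻¹`. -/
def cj (g : G) (B : Subgroup G) : Subgroup G := B.map (MulAut.conj g : G →* G)

theorem mem_cj {g x : G} {B : Subgroup G} : x ∈ cj g B ↔ g⁻¹ * x * g ∈ B := by
  simp only [cj, mem_map, MonoidHom.coe_coe, MulAut.conj_apply]
  exact ⟨fun ⟨b, hb, e⟩ => by rw [← e]; simpa [mul_assoc] using hb,
    fun h => ⟨_, h, by group⟩⟩

theorem conj_mem_cj {g b : G} {B : Subgroup G} (hb : b ∈ B) : g * b * g⁻¹ ∈ cj g B :=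
  mem_cj.2 (by simpa [mul_assoc] using hb)

theorem cj_mul (g h : G) (B : Subgroup G) : cj (g * h) B = cj g (cj h B) := by
  ext x; simp only [mem_cj, mul_inv_rev, mul_assoc]

@[simp] theorem cj_one (B : Subgroup G) : cj 1 B = B := by
  ext x; simp [mem_cj]

theorem card_cj (g : G) (B : Subgroup G) : Nat.card (cj g B) = Nat.card B :=
  card_map_of_injective (MulAut.conj g).injective

theorem cj_eq_self_iff {g : G} {B : Subgroup G} : cj g B = B ↔ g ∈ normalizer (B : Set G) :=
  mem_normalizer_iff_map_conj_eq.symm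

theorem cj_ne_bot {g : G} {B : Subgroup G} (h : B ≠ ⊥) : cj g B ≠ ⊥ := fun e =>
  h ((map_eq_bot_iff_of_injective _ (MulAut.conj g).injective).1 e)

theorem isPGroup_cj {p : ℕ} {g : G} {B : Subgroup G} (h : IsPGroup p B) : IsPGroup p (cj g B) :=
  h.map _

theorem cj_le_cj {g : G} {B C : Subgroup G} (h : B ≤ C) : cj g B ≤ cj g C := map_mono h

theorem cj_normalizer (g : G) (B : Subgroup G) :
    normalizer (cj g B : Set G) = cj g (normalizer (B : Set G)) := by
  ext x
  rw [mem_cj, ← cj_eq_self_iff, ← cj_eq_self_iff, cj_mul, cj_mul]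
  refine ⟨fun h => by rw [h, ← cj_mul, inv_mul_cancel, cj_one],
    fun h => ?_⟩
  have e := congrArg (cj g) h
  rwa [← cj_mul g g⁻¹, mul_inv_cancel, cj_one] at e

/-- A finite `p`-subgroup `P` containing `B` normalises `B` as soon as every conjugate of `B`
which mutually normalises with `B` is equal to it. -/
theorem le_normalizer_of_mutual [Finite G] {p : ℕ} [Fact p.Prime] {P B : Subgroup G}
    (hP : IsPGroup p P) (hBP : B ≤ P)
    (h : ∀ g ∈ P, cj g B ≤ normalizer (B : Set G) → B ≤ normalizer (cj g B : Set G) → cj g B = B) :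
    P ≤ normalizer (B : Set G) := by
  by_contra hne
  set M := P ⊓ normalizer (B : Set G) with hM
  have hlt : M < P := lt_of_le_not_ge inf_le_left fun e => hne (e.trans inf_le_right)
  obtain ⟨g, hgP, hgM, hg⟩ := exists_normalizing hP hlt
  have hBM : B ≤ M := le_inf hBP le_normalizer
  have hgM' : cj g M = M := cj_eq_self_iff.2 hg
  have h1 : cj g B ≤ M := (cj_le_cj hBM).trans hgM'.le
  refine hgM ⟨hgP, cj_eq_self_iff.1 (h g hgP (h1.trans inf_le_right) ?_)⟩
  rw [cj_normalizer]
  exact hBM.trans (hgM'.ge.trans (cj_le_cj inf_le_right))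

end Cfsg.Agent.CITPair
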