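import Cfsg.Agent.CITPair.Exists

/-!
# A simple CIT group with a TI Sylow 2-subgroup
-/

set_option autoImplicit false

namespace Cfsg.Agent.CITPair

open Subgroup
open Cfsg.Agent.Fg24.CT (Inv2)

universe u

variable {G : Type u} [Group G] [Finite G] [IsSimpleGroup G]

theorem not_isMulCommutative_of (hna : ∃ a b : G, a * b ≠ b * a) : ¬ IsCyclic G := fun _ => by
  obtain ⟨a, b, h⟩ := hna
  exact h ((IsCyclic.commGroup (α := G)).mul_comm a b)

theorem exists_klein_sylow (hna : ∃ a b : G, a * b ≠ b * a) :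
    ∃ (S : Sylow 2 G) (a b : G), a ∈ (S : Subgroup G) ∧ b ∈ (S : Subgroup G) ∧
      Inv2 a ∧ Inv2 b ∧ a ≠ b := by
  obtain ⟨E, hE⟩ := Cfsg.Agent.S0204.result (G := G) (not_isMulCommutative_of hna)
  have hEp : IsPGroup 2 E := IsPGroup.of_card (n := 2) (by rw [hE.card_four]; rfl)
  obtain ⟨S, hES⟩ := hEp.exists_le_sylow
  have h4 := hE.card_four
  haveI : Nontrivial E := Finite.one_lt_card_iff_nontrivial.1 (by omega)
  obtain ⟨a, ha⟩ := exists_ne (1 : E)
  obtain ⟨b, hb1, hba⟩ : ∃ b : E, b ≠ 1 ∧ b ≠ a := by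
    by_contra! hall
    have : Nat.card E ≤ 2 := by
      rw [← Set.ncard_univ, ← Set.ncard_pair ha.symm]
      exact Set.ncard_le_ncard (fun v _ => (em (v = 1)).elim Or.inl fun hv => Or.inr (hall v hv))
    omega
  have hinv : ∀ e : E, e ≠ 1 → Inv2 (e : G) := fun e he =>
    ⟨fun h => he (Subtype.ext h), mul_self_of_orderOf (Invol.klein_orderOf hE e.2
      fun h => he (Subtype.ext h))⟩
  exact ⟨S, a, b, hES a.2, hES b.2, hinv a ha, hinv b hb1, fun e => hba (Subtype.ext e).symm⟩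

/-- A TI Sylow `2`-subgroup of a simple CIT group satisfies Suzuki's hypotheses. -/
theorem hyp_of_ti (hC : CIT G) (hna : ∃ a b : G, a * b ≠ b * a) (S : Sylow 2 G)
    (hTI : ∀ g : G, g ∉ normalizer ((S : Subgroup G) : Set G) →
      (S : Subgroup G) ⊓ cj g (S : Subgroup G) = ⊥) :
    SuzukiTI.Hyp (S : Subgroup G) := by
  haveI : Fact (Nat.Prime 2) := ⟨Nat.prime_two⟩
  obtain ⟨S', a₀, b₀, ha₀, hb₀, ha2, hb2, hab⟩ := exists_klein_sylow hna
  obtain ⟨g, hg⟩ := MulAction.exists_smul_eq G S' S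
  have hmem : ∀ x ∈ (S' : Subgroup G), g * x * g⁻¹ ∈ (S : Subgroup G) := fun x hx => by
    rw [← hg]
    exact conj_mem_cj (g := g) hx
  set H := normalizer ((S : Subgroup G) : Set G) with hH
  have hSne : (S : Subgroup G) ≠ ⊥ := fun e => (ha2.conj g).1 (mem_bot.1 (e ▸ hmem a₀ ha₀))
  have hHtop : H ≠ ⊤ := fun e => by
    haveI := normalizer_eq_top_iff.1 e
    rcases (inferInstance : (S : Subgroup G).Normal).eq_bot_or_eq_top with h | h
    · exact hSne h
    · haveI : Nontrivial G := IsSimpleGroup.toNontrivial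
      have hG : IsPGroup 2 G := (h ▸ S.2 : IsPGroup 2 (⊤ : Subgroup G)).of_equiv topEquiv
      haveI := hG.center_nontrivial
      rcases (inferInstance : (center G).Normal).eq_bot_or_eq_top with hc | hc
      · exact (center G).nontrivial_iff_ne_bot.1 inferInstance hc
      · obtain ⟨a, b, hab⟩ := hna
        exact hab ((mem_center_iff.1 (hc ▸ mem_top a) b).symm)
  have hsylmem : ∀ P : Subgroup G, IsPGroup 2 P → P ≤ H → P ≤ (S : Subgroup G) := fun P hP hPH => by
    have h := S.is_maximal' (S.2.to_sup_of_normal_left' hP hPH) le_sup_left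
    exact h ▸ le_sup_right
  have hinvol : ∀ t ∈ H, orderOf t = 2 → t ∈ (S : Subgroup G) := fun t ht ho =>
    hsylmem (zpowers t) (IsPGroup.of_card (n := 1) (by rw [Nat.card_zpowers, ho, pow_one]))
      (zpowers_le.2 ht) (mem_zpowers t)
  have hti : ∀ g x : G, x ∈ (S : Subgroup G) → x ≠ 1 → g * x * g⁻¹ ∈ (S : Subgroup G) → g ∈ H := by
    intro g x hx hx1 hgx
    by_contra hg
    have h := hTI g hg
    exact hx1 (conj_eq_one_iff.1 (mem_bot.1 (h ▸ mem_inf.2 ⟨hgx, conj_mem_cj hx⟩)))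
  have hE : Embedded H := fun g t ht ho hgt => hti g t (hinvol t ht ho)
    (fun e => by rw [e, orderOf_one] at ho; omega)
    (hinvol _ hgt (by rw [← MulAut.conj_apply, MulEquiv.orderOf_eq, ho]))
  -- every involution of `S` is central in `S`
  have hcent : ∀ t ∈ (S : Subgroup G), orderOf t = 2 → ∀ y ∈ (S : Subgroup G), Commute y t := by
    intro t ht ho
    haveI : Nontrivial (S : Subgroup G) := (nontrivial_iff_ne_bot _).2 hSne
    haveI := S.2.center_nontrivial
    obtain ⟨⟨z, hz⟩, hz1⟩ := exists_ne (1 : center (S : Subgroup G))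
    obtain ⟨n, hn⟩ := exists_pow_orderOf_two S.2 z.2 (fun e => hz1 (Subtype.ext (Subtype.ext e)))
    obtain ⟨k, hk, hkt⟩ := hE.exists_conj hHtop (le_normalizer (pow_mem z.2 n)) hn (le_normalizer ht) ho
    intro y hy
    have hy' : k⁻¹ * y * k ∈ (S : Subgroup G) := (mem_normalizer_iff''.1 hk y).1 hy
    have hc : Commute (k⁻¹ * y * k) ((z : G) ^ n) :=
      (show Commute (k⁻¹ * y * k) (z : G) from
        congrArg Subtype.val (mem_center_iff.1 hz ⟨_, hy'⟩)).pow_right n
    have := (Commute.conj_iff k).2 hc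
    rw [hkt] at this
    simpa [mul_assoc] using this
  refine ⟨hHtop, ⟨g * a₀ * g⁻¹, g * b₀ * g⁻¹, hmem _ ha₀, hmem _ hb₀, ha2.conj g, hb2.conj g,
    fun e => hab (mul_left_cancel (mul_right_cancel e))⟩, fun t ht ht2 => ?_, fun y hy hy1 => ?_⟩
  · have ho := SuzukiTI.orderOf_inv2 ht2
    refine le_antisymm (hsylmem _ (hC t ho) fun x hx => ?_) fun y hy =>
      mem_centralizer_singleton_iff.2 (hcent t ht ho y hy).eq
    exact hE.centralizer_le (le_normalizer ht) ho (mem_centralizer_singleton_iff.1 hx)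
  · refine hsylmem _ (isPGroup_of_no_odd fun x hx ho => ?_) fun x hx => ?_
    · exact eq_one_of_odd_commute hC S.2 hy hy1 (mem_centralizer_singleton_iff.1 hx) ho
    · refine hti x y hy hy1 ?_
      rw [show x * y = y * x from mem_centralizer_singleton_iff.1 hx, mul_inv_cancel_right]
      exact hy

end Cfsg.Agent.CITPair
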