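import Cfsg.Agent.OddLocal.CNSimple
import Cfsg.Agent.CITPair.TI
import Cfsg.Agent.SuzukiTI.Main

/-!
# In a simple CN-group the centralisers of involutions are 2-groups
-/

set_option autoImplicit false

namespace Cfsg.Agent.CITPair

open Subgroup OddLocal OddLocal.CN
open Cfsg.Agent.Fg24.CT (Inv2)

universe u

variable {G : Type u} [Group G] [Finite G]

/-- A nilpotent centraliser of a central element of a Sylow subgroup, containing an element of
coprime order, is an anchor. -/
theorem anchor_centralizer {p : ℕ} [hp : Fact p.Prime] (hcn : Cfsg.IsCNGroup G) (P : Sylow p G)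
    {z y : G} (hzP : z ∈ (P : Subgroup G)) (hz1 : z ≠ 1)
    (hzC : (P : Subgroup G) ≤ centralizer ({z} : Set G)) {q : ℕ} (hq : q.Prime) (hqp : q ≠ p)
    (hyo : orderOf y = q) (hyH : y ∈ centralizer ({z} : Set G)) :
    Anchor (centralizer ({z} : Set G)) := by
  have := Fact.mk hq
  have hy1 : y ≠ 1 := fun e => hq.one_lt.ne (by rw [← hyo, e, orderOf_one])
  have hyq : IsPGroup q (zpowers y) :=
    IsPGroup.of_card (n := 1) (by rw [Nat.card_zpowers, hyo, pow_one])
  have hpord : ∀ u : G, u ∈ (P : Subgroup G) → ∀ v : G, ∀ r : ℕ, r.Prime → r ≠ p →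
      IsPGroup r (zpowers v) → (orderOf u).Coprime (orderOf v) := by
    intro u hu v r hr hrp hv
    obtain ⟨n, hn⟩ := IsPGroup.iff_card.mp (isPGroup_zpowers P.2 hu)
    rw [← Nat.card_zpowers u, hn, ← Nat.card_zpowers v]
    exact (coprime_of_isPGroup_ne hr hrp hv).symm.pow_left n
  set H := centralizer ({z} : Set G) with hH
  have hHn : Group.IsNilpotent H := hcn z hz1
  have hHcomm : ∀ u ∈ (P : Subgroup G), ∀ v ∈ H, ∀ r : ℕ, r.Prime → r ≠ p →
      IsPGroup r (zpowers v) → Commute u v := fun u hu v hv r hr hrp hvr =>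
    commute_of_mem hHn (hzC hu) hv (hpord u hu v r hr hrp hvr)
  refine ⟨fun e => hz1 (mem_bot.mp (e ▸ hzC hzP)), hHn, ?_⟩
  intro h hh hne
  -- reduce to prime order
  obtain ⟨r, hr, hrd⟩ := Nat.exists_prime_and_dvd (show orderOf h ≠ 1 from
    fun e => hne (orderOf_eq_one_iff.mp e))
  obtain ⟨h₀', hh₀⟩ := exists_prime_orderOf_dvd_card' (hp := ⟨hr⟩) (G := zpowers h) r
    (by rwa [Nat.card_zpowers])
  obtain ⟨i, hi⟩ := mem_zpowers_iff.mp h₀'.2
  set h₁ : G := (h₀' : G) with hh₁
  have hh₁H : h₁ ∈ H := zpowers_le.mpr hh h₀'.2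
  have hh₁o : orderOf h₁ = r := by rw [hh₁, Subgroup.orderOf_coe, hh₀]
  have hh₁1 : h₁ ≠ 1 := fun e => hr.one_lt.ne (by rw [← hh₁o, e, orderOf_one])
  have hle : centralizer ({h} : Set G) ≤ centralizer ({h₁} : Set G) := fun w hw =>
    mem_centralizer_singleton_iff.mpr (hi ▸
      (show Commute w h from mem_centralizer_singleton_iff.mp hw).zpow_right i)
  refine hle.trans ?_
  set K := centralizer ({h₁} : Set G) with hK
  have hKn : Group.IsNilpotent K := hcn h₁ hh₁1
  have hzK : z ∈ K :=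
    mem_centralizer_singleton_iff.mpr (mem_centralizer_singleton_iff.mp hh₁H).symm
  have hh₁r : IsPGroup r (zpowers h₁) :=
    IsPGroup.of_card (n := 1) (by rw [Nat.card_zpowers, hh₁o, pow_one])
  refine Coprime.le_of_forall_sylow_le fun s hs => ?_
  have := Fact.mk hs
  refine ⟨default, fun w hw => ?_⟩
  have hwK : w ∈ K := map_subtype_le _ hw
  have hws := zpowers_primePow _ hw
  rcases eq_or_ne s p with rfl | hsp
  · refine hzC ?_
    rcases eq_or_ne r s with rfl | hrp
    · have hyC : (P : Subgroup G) ≤ centralizer ({y} : Set G) := fun u hu =>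
        mem_centralizer_singleton_iff.mpr (hHcomm u hu y hyH q hq hqp hyq)
      have hh₁P : h₁ ∈ (P : Subgroup G) := mem_sylow_of_nilpotent hHn P hzC hh₁H hh₁r
      have hwy : w ∈ centralizer ({y} : Set G) :=
        mem_centralizer_singleton_iff.mpr (commute_of_mem hKn hwK
          (mem_centralizer_singleton_iff.mpr (hHcomm h₁ hh₁P y hyH q hq hqp hyq).symm)
          (by
            rw [← Nat.card_zpowers w, ← Nat.card_zpowers y]
            obtain ⟨n, hn⟩ := IsPGroup.iff_card.mp hws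
            rw [hn]
            exact (coprime_of_isPGroup_ne hq hqp hyq).symm.pow_left n))
      exact mem_sylow_of_nilpotent (hcn y hy1) P hyC hwy hws
    · exact mem_sylow_of_nilpotent hKn P
        (fun u hu => mem_centralizer_singleton_iff.mpr (hHcomm u hu h₁ hh₁H r hr hrp hh₁r)) hwK hws
  · exact mem_centralizer_singleton_iff.mpr
      (commute_of_mem hKn hwK hzK (hpord z hzP w s hs hsp hws).symm)

/-- Every involution of a simple CN-group has a `2`-group as centraliser. -/
theorem cit_of_cn [IsSimpleGroup G] (hna : ∃ a b : G, a * b ≠ b * a) (hcn : Cfsg.IsCNGroup G) :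
    ∀ t : G, orderOf t = 2 → IsPGroup 2 (centralizer ({t} : Set G)) := by
  haveI : Fact (Nat.Prime 2) := ⟨Nat.prime_two⟩
  intro t ht
  by_contra hnot
  have ht1 : t ≠ 1 := fun e => by rw [e, orderOf_one] at ht; omega
  have hCt : Group.IsNilpotent (centralizer ({t} : Set G)) := hcn t ht1
  obtain ⟨c, hc, hco, hc1⟩ : ∃ c ∈ centralizer ({t} : Set G), Odd (orderOf c) ∧ c ≠ 1 := by
    by_contra! h
    exact hnot (isPGroup_of_no_odd h)
  obtain ⟨q, hq, hqd⟩ := Nat.exists_prime_and_dvd (mt orderOf_eq_one_iff.1 hc1)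
  have hq2 : q ≠ 2 := by
    rintro rfl
    exact Nat.not_even_iff_odd.2 hco (even_iff_two_dvd.2 hqd)
  set y := c ^ (orderOf c / q) with hy
  have hyo : orderOf y = q := by
    rw [hy, orderOf_pow_of_dvd _ (Nat.div_dvd_of_dvd hqd), Nat.div_div_self hqd (orderOf_pos c).ne']
    exact (Nat.div_pos (Nat.le_of_dvd (orderOf_pos c) hqd) hq.pos).ne'
  have hyt : y ∈ centralizer ({t} : Set G) := pow_mem hc _
  obtain ⟨P, hP⟩ := (IsPGroup.of_card (n := 1) (G := zpowers t)
    (by rw [Nat.card_zpowers, ht, pow_one])).exists_le_sylow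
  have htP : t ∈ (P : Subgroup G) := hP (mem_zpowers t)
  obtain ⟨z₀, hz₀, hz₀1, hz₀C⟩ := exists_central P.2.isNilpotent
    (fun e => ht1 (mem_bot.1 (e ▸ htP)))
  obtain ⟨i, hi⟩ := exists_pow_orderOf_two P.2 hz₀ hz₀1
  set z := z₀ ^ i with hz
  have hz1 : z ≠ 1 := fun e => by rw [e, orderOf_one] at hi; omega
  have hzP : z ∈ (P : Subgroup G) := pow_mem hz₀ i
  have hzC : (P : Subgroup G) ≤ centralizer ({z} : Set G) := fun x hx =>
    mem_centralizer_singleton_iff.2 (Commute.pow_right (mem_centralizer_singleton_iff.1 (hz₀C hx)) i)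
  have hyz : y ∈ centralizer ({z} : Set G) := mem_centralizer_singleton_iff.2
    (commute_of_mem hCt hyt (mem_centralizer_singleton_iff.2
      (mem_centralizer_singleton_iff.1 (hzC htP)).symm) (by
        rw [hyo, hi]
        exact (Nat.coprime_primes hq Nat.prime_two).2 hq2))
  have hA := anchor_centralizer hcn P hzP hz1 hzC hq hq2 hyo hyz
  set H := centralizer ({z} : Set G) with hH
  haveI := hA.nilpotent
  have hHtop : H ≠ ⊤ := fun e => by
    have hn : Group.IsNilpotent G := nilpotent_of_mulEquiv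
      ((MulEquiv.subgroupCongr e).trans topEquiv)
    haveI := hn
    obtain ⟨a, b, hab⟩ := hna
    exact hab (IsSimpleGroup.comm_iff_isSolvable.mpr (inferInstance : Group.IsSolvable G) a b)
  set N := normalizer (H : Set G) with hN
  have hNtop : N ≠ ⊤ := fun e => by
    haveI := normalizer_eq_top_iff.1 e
    rcases (inferInstance : H.Normal).eq_bot_or_eq_top with h | h
    · exact hA.ne_bot h
    · exact hHtop h
  have hti : ∀ g x : G, x ∈ H → x ≠ 1 → g * x * g⁻¹ ∈ H → g ∈ N := fun g x hx hx1 hgx =>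
    cj_eq_self_iff.1 ((hA.map_conj g).eq_of_common hA (h := g * x * g⁻¹) (conj_mem_cj hx) hgx
      (fun e => hx1 (conj_eq_one_iff.1 e)))
  have hinvol : ∀ x ∈ N, orderOf x = 2 → x ∈ H := by
    intro x hxN hx
    have hxp : IsPGroup 2 (zpowers x) :=
      IsPGroup.of_card (n := 1) (by rw [Nat.card_zpowers, hx, pow_one])
    have hPn : N ≤ normalizer ((P : Subgroup G) : Set G) := fun g hg => by
      refine cj_eq_self_iff.1 (eq_of_le_of_card_ge (fun u hu => ?_) (le_of_eq (card_cj g _).symm))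
      have huH : u ∈ H := (cj_eq_self_iff.2 hg).le (cj_le_cj hzC hu)
      exact mem_sylow_of_nilpotent hA.nilpotent P hzC huH (isPGroup_zpowers (isPGroup_cj P.2) hu)
    exact hzC (le_sylow_of_le_normalizer P hxp (zpowers_le.2 (hPn hxN)) (mem_zpowers x))
  have hE : Embedded N := fun g x hx hxo hgx => hti g x (hinvol x hx hxo)
    (fun e => by rw [e, orderOf_one] at hxo; omega)
    (hinvol _ hgx (by rw [← MulAut.conj_apply, MulEquiv.orderOf_eq, hxo]))
  have hzH : z ∈ H := mem_centralizer_singleton_iff.2 rfl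
  have hcent : ∀ x ∈ H, orderOf x = 2 → ∀ u ∈ H, Commute u x := by
    intro x hx hxo u hu
    obtain ⟨k, hk, hkx⟩ := hE.exists_conj hNtop (le_normalizer hzH) hi (le_normalizer hx) hxo
    have hu' : k⁻¹ * u * k ∈ H := (mem_normalizer_iff''.1 hk u).1 hu
    have := (Commute.conj_iff k).2 (show Commute (k⁻¹ * u * k) z from
      mem_centralizer_singleton_iff.1 hu')
    rw [hkx] at this
    simpa [mul_assoc] using this
  obtain ⟨S', a, b, ha, hb, ha2, hb2, hab⟩ := exists_klein_sylow hna
  obtain ⟨g, hg⟩ := MulAction.exists_smul_eq G S' P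
  have hmem : ∀ x ∈ (S' : Subgroup G), g * x * g⁻¹ ∈ H := fun x hx => hzC (by
    rw [← hg]; exact conj_mem_cj (g := g) hx)
  have hyp : SuzukiTI.Hyp H := by
    refine ⟨hNtop, ⟨g * a * g⁻¹, g * b * g⁻¹, hmem _ ha, hmem _ hb, ha2.conj g, hb2.conj g,
      fun e => hab (mul_left_cancel (mul_right_cancel e))⟩, fun x hx hx2 => ?_, hA.cent⟩
    exact le_antisymm (hA.cent x hx hx2.1) fun u hu =>
      mem_centralizer_singleton_iff.2 (hcent x hx (SuzukiTI.orderOf_inv2 hx2) u hu).eq
  have := eq_one_of_odd_mem hyp.isPGroup hyz (by rw [hyo]; exact hq.odd_of_ne_two hq2)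
  rw [this, orderOf_one] at hyo
  exact hq.one_lt.ne hyo

end Cfsg.Agent.CITPair
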