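import Cfsg.Agent.CITPair.MaxEA
import Cfsg.Agent.Core.Solvable

/-!
# The second centre of a Sylow 2-subgroup inside `Q`
-/

set_option autoImplicit false

namespace Cfsg.Agent.CITPair

open Subgroup
open scoped commutatorElement

universe u

variable {G : Type u} [Group G]

namespace Par

variable {N Q T : Subgroup G} {q : ℕ} (P : Par N Q T q)
include P

/-- The involutions central in `T` lie in `Ω₁(Z(Q))`. -/
theorem mem_W [Finite G] (hC : CIT G) {z : G} (hz : z ∈ T) (hz2 : z * z = 1)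
    (hc : ∀ t ∈ T, Commute t z) : z ∈ VV Q ⊓ centralizer (T : Set G) :=
  ⟨P.loc.mem_VV_of_commute hC (P.le hz) hz2 fun r hr => hc r (P.Qle hr),
    mem_centralizer_iff.2 fun t ht => (hc t ht).eq⟩

theorem W_comm {w t : G} (hw : w ∈ VV Q ⊓ centralizer (T : Set G)) (ht : t ∈ T) : Commute t w :=
  mem_centralizer_iff.1 hw.2 t ht

/-- An element of `Q` with all commutators with `Q` among the central involutions of `T` is
central in `Q`. -/
theorem mem_center_of_comm [Finite G] (hC : CIT G) {y : G} (hy : y ∈ Q)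
    (h : ∀ r ∈ Q, ⁅y, r⁆ ∈ VV Q ⊓ centralizer (T : Set G)) : ∀ r ∈ Q, Commute r y := by
  haveI : Fact (Nat.Prime 3) := ⟨Nat.prime_three⟩
  obtain ⟨x, hxN, hxo, hxW⟩ := P.three
  have hx3 : x * x * x = 1 := by
    rw [← pow_three', ← hxo, pow_orderOf_eq_one]
  set W := VV Q ⊓ centralizer (T : Set G) with hW
  let s : G → G := fun r => x * r * x⁻¹
  have s_mul : ∀ a b, s (a * b) = s a * s b := fun a b => by simp [s, mul_assoc]
  have s3 : ∀ a, s (s (s a)) = a := fun a => by
    calc s (s (s a)) = x * x * x * a * (x * x * x)⁻¹ := by simp [s, mul_assoc]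
      _ = a := by rw [hx3]; simp
  have s_inj : ∀ a b, s a = s b → a = b := fun a b e => by rw [← s3 a, e, s3]
  have s_inv : ∀ a, s a⁻¹ = (s a)⁻¹ := fun a => by simp [s, mul_assoc]
  have s_comm : ∀ a b, s ⁅a, b⁆ = ⁅s a, s b⁆ := fun a b => by
    simp only [commutatorElement_def, s_mul, s_inv]
  have sQ : ∀ {r}, r ∈ Q → s r ∈ Q := fun {r} hr => (mem_normalizer_iff.1 (P.loc.norm hxN) r).1 hr
  have sV : ∀ {r}, r ∈ VV Q → s r ∈ VV Q := fun {r} hr => conj_mem_VV (P.loc.norm hxN) hr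
  -- the fixed-point-free product rule
  have tele : ∀ r ∈ Q, r * s r * s (s r) = 1 := by
    have hinj : Function.Injective (fun r : Q => (⟨(r : G)⁻¹ * s r,
        mul_mem (inv_mem r.2) (sQ r.2)⟩ : Q)) := by
      intro a b e
      have e1 : (a : G)⁻¹ * s a = (b : G)⁻¹ * s b := congrArg Subtype.val e
      have e2 : s ((b : G) * (a : G)⁻¹) = (b : G) * (a : G)⁻¹ := by
        rw [s_mul, s_inv, show s (b : G) = b * ((a : G)⁻¹ * s a) by rw [e1]; group]
        group
      by_contra hab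
      have hc : Commute x ((b : G) * (a : G)⁻¹) := mul_inv_eq_iff_eq_mul.1 e2
      have := eq_one_of_odd_commute hC P.loc.two (mul_mem b.2 (inv_mem a.2))
        (fun e3 => hab (Subtype.ext (mul_inv_eq_one.1 e3).symm)) hc (by rw [hxo]; decide)
      rw [this, orderOf_one] at hxo
      omega
    intro r hr
    obtain ⟨a, ha⟩ := (Finite.injective_iff_surjective.1 hinj) ⟨r, hr⟩
    rw [show r = (a : G)⁻¹ * s a from (congrArg Subtype.val ha).symm]
    simp only [s_mul, s_inv, s3]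
    group
  let e : G → G := fun r => ⁅y, r⁆
  have emul : ∀ a ∈ Q, ∀ b ∈ Q, e (a * b) = e a * e b := fun a ha b hb => by
    have hcb : Commute a (e b) := (h b hb).1.2.2 a ha
    show ⁅y, a * b⁆ = ⁅y, a⁆ * ⁅y, b⁆
    calc ⁅y, a * b⁆ = ⁅y, a⁆ * (a * ⁅y, b⁆ * a⁻¹) := by
          simp only [commutatorElement_def]; group
      _ = ⁅y, a⁆ * ⁅y, b⁆ := by rw [show a * ⁅y, b⁆ * a⁻¹ = ⁅y, b⁆ from
          mul_inv_eq_iff_eq_mul.2 hcb.eq]
  -- the three commutator maps multiply to one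
  have three : ∀ r ∈ Q, e r * s (e (s (s r))) * s (s (e (s r))) = 1 := by
    intro r hr
    rw [s_comm, s3, s_comm, s_comm, s3]
    have c1 : ⁅s y, r⁆ ∈ VV Q := by
      rw [show r = s (s (s r)) from (s3 r).symm, ← s_comm]
      exact sV (h _ (sQ (sQ hr))).1
    have c2 : ⁅s (s y), r⁆ ∈ VV Q := by
      rw [show r = s (s (s r)) from (s3 r).symm, ← s_comm, ← s_comm]
      exact sV (sV (h _ (sQ hr)).1)
    have k1 : Commute y ⁅s y, r⁆ := c1.2.2 y hy
    have k2 : Commute (y * s y) ⁅s (s y), r⁆ := c2.2.2 _ (mul_mem hy (sQ hy))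
    have expand : ⁅y * s y * s (s y), r⁆ =
        ((y * s y) * ⁅s (s y), r⁆ * (y * s y)⁻¹) * ((y * ⁅s y, r⁆ * y⁻¹) * ⁅y, r⁆) := by
      simp only [commutatorElement_def]; group
    rw [tele y hy, mul_inv_eq_iff_eq_mul.2 k2.eq, mul_inv_eq_iff_eq_mul.2 k1.eq,
      commutatorElement_one_left] at expand
    show ⁅y, r⁆ * ⁅s y, r⁆ * ⁅s (s y), r⁆ = 1
    rw [expand, (VV_comm (h r hr).1 c1).eq, (VV_comm c2 (mul_mem c1 (h r hr).1)).eq]
  -- equal components
  have comp : ∀ a ∈ W, ∀ b ∈ W, ∀ c ∈ W, a * s b * s (s c) = 1 → b = c := by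
    intro a ha b hb c hc habc
    have t := tele c hc.1.1
    have hcs : s (s c) = c * s c := by
      have e1 : s (s c) = (c * s c)⁻¹ := eq_inv_of_mul_eq_one_right t
      rw [e1, inv_eq_self (mul_mem hc.1 (sV hc.1)).2.1]
    have h2 : a * c * s (b * c) = 1 := by
      rw [s_mul, ← habc, hcs]
      calc a * c * (s b * s c) = a * (c * s b) * s c := by group
        _ = a * (s b * c) * s c := by rw [(VV_comm hc.1 (sV hb.1)).eq]
        _ = a * s b * (c * s c) := by group
    have hac : a * c ∈ W := mul_mem ha hc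
    have hsW : s (b * c) ∈ centralizer (T : Set G) := by
      rw [show s (b * c) = (a * c)⁻¹ from eq_inv_of_mul_eq_one_right h2, inv_eq_self hac.1.2.1]
      exact hac.2
    have := hxW _ (mul_mem hb hc) hsW
    rw [← inv_eq_self hc.1.2.1] at this
    exact mul_inv_eq_one.1 this
  have einv : ∀ r ∈ Q, e (s r) = e r := by
    intro r hr
    have hr2 := sQ (sQ hr)
    -- apply the component rule at `s r`
    have := three (s (s r)) hr2
    rw [show s (s (s r)) = r from s3 r] at this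
    exact comp _ (h _ hr2) _ (h _ (sQ hr)) _ (h _ hr) this
  intro r hr
  refine (commutatorElement_eq_one_iff_mul_comm.1 ?_).symm
  show e r = 1
  obtain ⟨a, ha⟩ : ∃ a : Q, (⟨(a : G)⁻¹ * s a, mul_mem (inv_mem a.2) (sQ a.2)⟩ : Q) = ⟨r, hr⟩ := by
    refine (Finite.injective_iff_surjective (f := fun a : Q => (⟨(a : G)⁻¹ * s a,
      mul_mem (inv_mem a.2) (sQ a.2)⟩ : Q))).1 ?_ ⟨r, hr⟩
    intro a b e1
    have e2 : (a : G)⁻¹ * s a = (b : G)⁻¹ * s b := congrArg Subtype.val e1
    have e3 : ((a : G) * (b : G)⁻¹) = s ((a : G) * (b : G)⁻¹) := by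
      rw [s_mul, s_inv, show s (a : G) = a * ((b : G)⁻¹ * s b) by rw [← e2]; group]
      group
    have e4 := tele _ (mul_mem a.2 (inv_mem b.2))
    rw [← e3, ← e3] at e4
    set d := (a : G) * (b : G)⁻¹
    have : d = 1 := by
      refine eq_one_of_odd_mem P.loc.two (mul_mem a.2 (inv_mem b.2)) ?_
      refine Odd.of_dvd_nat (by decide : Odd 3) (orderOf_dvd_of_pow_eq_one ?_)
      rw [pow_three', e4]
    exact Subtype.ext (mul_inv_eq_one.1 this)
  rw [show r = (a : G)⁻¹ * s a from (congrArg Subtype.val ha).symm, emul _ (inv_mem a.2) _ (sQ a.2),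
    einv _ a.2, ← emul _ (inv_mem a.2) _ a.2, inv_mul_cancel]
  exact commutatorElement_one_right y

end Par

end Cfsg.Agent.CITPair
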