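import Cfsg.Agent.CITPair.Par
import Cfsg.Agent.Coprime.SchurZassenhaus
import Cfsg.Agent.Invol.KleinSylow
import Cfsg.Agent.Invol.Pair

/-!
# A 2-constrained subgroup which is not 2-closed is not strongly embedded
-/

set_option autoImplicit false

namespace Cfsg.Agent.CITPair

open Subgroup

universe u

variable {G : Type u} [Group G]

theorem commute_mul_invol {t v : G} (ht : t * t = 1) (hv : v * v = 1) (k : ℕ)
    (hk : (t * v) ^ k * (t * v) ^ k = 1) : Commute t ((t * v) ^ k) ∧ Commute v ((t * v) ^ k) := by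
  have h1 : t * (t * v) * t⁻¹ = (t * v)⁻¹ := by
    rw [← mul_assoc, ht, one_mul, inv_eq_self ht, mul_inv_rev, inv_eq_self ht, inv_eq_self hv]
  have h2 : t * (t * v) ^ k * t⁻¹ = (t * v) ^ k := by
    rw [← conj_pow, h1, inv_pow, inv_eq_self hk]
  have h3 : Commute t ((t * v) ^ k) := mul_inv_eq_iff_eq_mul.1 h2
  refine ⟨h3, ?_⟩
  have := Commute.mul_left h3 (Commute.self_pow (t * v) k)
  rwa [← mul_assoc, ht, one_mul] at this

/-- The embedding property: elements fusing involutions of `H` lie in `H`. -/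
def Embedded (H : Subgroup G) : Prop :=
  ∀ g : G, ∀ t ∈ H, orderOf t = 2 → g * t * g⁻¹ ∈ H → g ∈ H

theorem Embedded.centralizer_le {H : Subgroup G} (h : Embedded H) {t : G} (ht : t ∈ H)
    (ho : orderOf t = 2) {g : G} (hc : Commute g t) : g ∈ H :=
  h g t ht ho (by rw [hc.eq, mul_inv_cancel_right]; exact ht)

theorem Embedded.exists_conj [Finite G] [IsSimpleGroup G] {H : Subgroup G} (h : Embedded H)
    (hH : H ≠ ⊤) {t t' : G} (ht : t ∈ H) (ho : orderOf t = 2) (ht' : t' ∈ H)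
    (ho' : orderOf t' = 2) : ∃ g ∈ H, g * t * g⁻¹ = t' := by
  classical
  obtain ⟨u, hu2, huH⟩ : ∃ u : G, orderOf u = 2 ∧ u ∉ H := by
    by_contra! hall
    rcases (normalClosure_normal (s := ({t} : Set G))).eq_bot_or_eq_top with e | e
    · have h1 : t ∈ (⊥ : Subgroup G) := e ▸ subset_normalClosure rfl
      rw [mem_bot.1 h1, orderOf_one] at ho
      omega
    · refine hH (top_le_iff.1 (e ▸ ?_))
      rw [normalClosure, closure_le]
      intro y hy
      obtain ⟨a, rfl, hc⟩ := Group.mem_conjugatesOfSet_iff.1 hy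
      obtain ⟨c, rfl⟩ := isConj_iff.1 hc
      exact hall _ (by rw [← MulAut.conj_apply, MulEquiv.orderOf_eq, ho])
  have key : ∀ s ∈ H, orderOf s = 2 → ∃ g : G, g * s * g⁻¹ = u := by
    intro s hs hso
    have hs2 := mul_self_of_orderOf hso
    have hu := mul_self_of_orderOf hu2
    rcases Nat.even_or_odd (orderOf (s * u)) with ⟨k, hk⟩ | hodd
    · exfalso
      have hpos := orderOf_pos (s * u)
      have hzo : orderOf ((s * u) ^ k) = 2 := by
        rw [orderOf_pow_of_dvd (by omega) ⟨2, by omega⟩, hk]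
        exact Nat.div_eq_of_eq_mul_left (by omega) (by omega)
      obtain ⟨c1, c2⟩ := commute_mul_invol hs2 hu k (mul_self_of_orderOf hzo)
      exact huH (h.centralizer_le (h.centralizer_le hs hso c1.symm) hzo c2)
    · obtain ⟨c, hc⟩ := isConj_iff.1
        (Invol.isConj_of_odd hso hu2 hodd : IsConj s u)
      exact ⟨c, hc⟩
  obtain ⟨g, hg⟩ := key t ht ho
  obtain ⟨g', hg'⟩ := key t' ht' ho'
  refine ⟨g'⁻¹ * g, h _ t ht ho ?_, ?_⟩
  · rw [show g'⁻¹ * g * t * (g'⁻¹ * g)⁻¹ = g'⁻¹ * (g * t * g⁻¹) * g' by group, hg, ← hg']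
    simpa [mul_assoc] using ht'
  · rw [show g'⁻¹ * g * t * (g'⁻¹ * g)⁻¹ = g'⁻¹ * (g * t * g⁻¹) * g' by group, hg, ← hg']
    group

/-- A subgroup with a `2`-constrained structure which is not `2`-closed has an involution outside its
largest normal `2`-subgroup. -/
theorem Loc.exists_invol_notMem [Finite G] (hC : CIT G) {H Q : Subgroup G} (L : Loc H Q)
    {R : Subgroup G} (hR : R ≤ H) (hR2 : IsPGroup 2 R) (hRQ : ¬ R ≤ Q) :
    ∃ t ∈ H, orderOf t = 2 ∧ t ∉ Q := by
  classical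
  haveI : Fact (Nat.Prime 2) := ⟨Nat.prime_two⟩
  have HA := L.fpfAct hC
  set Rb := (R.subgroupOf H).map (img L) with hRb
  have hRb2 : IsPGroup 2 Rb := hR2.comap_subtype.map _
  have hRb1 : Rb ≠ ⊥ := fun e => hRQ fun r hr => (L.ker_img hC ⟨r, hR hr⟩).1
    (mem_bot.1 (e ▸ L.mem_map_img.2 ⟨⟨r, hR hr⟩, hr, rfl⟩))
  obtain ⟨a, -, ha⟩ := exists_invol hRb2 hRb1
  obtain ⟨g, h, hh1, hho, hinv, -⟩ := Invol.exists_inverted_odd ha fun M hM hM2 haM => by
    rw [HA.core M hM hM2, mem_bot] at haM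
    rw [haM, orderOf_one] at ha
    omega
  obtain ⟨x₀, hx₀⟩ := img_surjective L h
  obtain ⟨k, m, hm, hd⟩ :=
    Nat.exists_eq_pow_mul_and_not_dvd (orderOf_pos (x₀ : G)).ne' 2 (by decide)
  set x := x₀ ^ 2 ^ k with hx
  have hxodd : Odd (orderOf (x : G)) := by
    rw [hx, SubmonoidClass.coe_pow, orderOf_pow_of_dvd (by positivity) ⟨m, hd⟩, hd,
      Nat.mul_div_cancel_left _ (by positivity)]
    exact Nat.odd_iff.2 (by omega)
  have himg : img L x = h ^ 2 ^ k := by rw [hx, map_pow, hx₀]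
  have himg1 : img L x ≠ 1 := by
    rw [himg]
    intro e
    obtain ⟨i, -, hi⟩ := (Nat.dvd_prime_pow Nat.prime_two).1 (orderOf_dvd_of_pow_eq_one e)
    rcases i with _ | i
    · exact hh1 (orderOf_eq_one_iff.1 (by simpa using hi))
    · rw [hi, Nat.odd_iff, pow_succ] at hho
      omega
  have hinvx : a * img L x * a⁻¹ = (img L x)⁻¹ := by
    rw [himg, ← conj_pow, hinv, inv_pow]
  obtain ⟨y, hy⟩ := img_surjective L a
  set K := zpowers (x : G) with hK
  set K' := cj (y : G) K with hK'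
  have hd1 : ∀ z ∈ K, z ∈ Q → z = 1 := fun z hz hzQ => by
    refine eq_one_of_odd_mem L.two hzQ (hxodd.of_dvd_nat ?_)
    exact orderOf_dvd_of_mem_zpowers hz
  have hKH : K ≤ H := zpowers_le.2 x.2
  have hQK : Q ⊓ K = ⊥ := eq_bot_iff.2 fun z hz => mem_bot.2 (hd1 z hz.2 hz.1)
  have hQK' : Q ⊓ K' = ⊥ := eq_bot_iff.2 fun z hz => mem_bot.2 (by
    obtain ⟨h1, h2⟩ := mem_inf.1 hz
    have := hd1 _ (mem_cj.1 h2) ((mem_normalizer_iff''.1 (L.norm y.2) z).1 h1)
    calc z = (y : G) * ((y : G)⁻¹ * z * y) * (y : G)⁻¹ := by group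
      _ = 1 := by rw [this]; group)
  have hxy : (y : G) * x * (y : G)⁻¹ * x ∈ Q := by
    have : img L (y * x * y⁻¹ * x) = 1 := by
      rw [map_mul, map_mul, map_mul, map_inv, hy, hinvx, inv_mul_cancel]
    exact (L.ker_img hC _).1 this
  have hsup : Q ⊔ K = Q ⊔ K' := by
    refine le_antisymm (sup_le le_sup_left (zpowers_le.2 ?_)) (sup_le le_sup_left ?_)
    · have : ((y : G) * x * (y : G)⁻¹)⁻¹ * ((y : G) * x * (y : G)⁻¹ * x) = x := by group
      rw [← this]
      exact mul_mem (inv_mem (mem_sup_right (conj_mem_cj (mem_zpowers _)))) (mem_sup_left hxy)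
    · rw [hK', hK, cj, MonoidHom.map_zpowers, zpowers_le]
      have : (MulAut.conj (y : G)) (x : G) = ((y : G) * x * (y : G)⁻¹ * x) * (x : G)⁻¹ := by
        simp [MulAut.conj_apply]
      rw [MonoidHom.coe_coe, this]
      exact mul_mem (mem_sup_left hxy) (inv_mem (mem_sup_right (mem_zpowers _)))
  have hcop : (Nat.card Q).Coprime (Nat.card K) := by
    obtain ⟨j, hj⟩ := L.two.exists_card_eq
    rw [hj, hK, Nat.card_zpowers]
    exact Nat.Coprime.pow_left _ hxodd.coprime_two_left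
  haveI := L.two.isNilpotent
  obtain ⟨n, hn, hnK⟩ := Coprime.exists_conj_of_sup_eq (hKH.trans L.norm) hQK hQK' hsup hcop
    (Or.inl inferInstance)
  have hnK' : cj n K = K' := by
    rw [← hnK]
    rfl
  set y' := (⟨n, L.le hn⟩ : H)⁻¹ * y with hy'
  have hy'K : cj (y' : G) K = K := by
    rw [hy', coe_mul, cj_mul, ← hK', ← hnK', ← cj_mul, coe_inv, inv_mul_cancel, cj_one]
  have hy'img : img L y' = a := by
    rw [hy', map_mul, map_inv, (L.ker_img hC ⟨n, L.le hn⟩).2 hn, inv_one, one_mul, hy]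
  have hy'x : (y' : G) * x * (y' : G)⁻¹ = (x : G)⁻¹ := by
    have hmem : (y' : G) * x * (y' : G)⁻¹ * x ∈ K := by
      refine mul_mem ?_ (mem_zpowers _)
      exact hy'K.le (conj_mem_cj (mem_zpowers _))
    have hQ' : img L (y' * x * y'⁻¹ * x) = 1 := by
      rw [map_mul, map_mul, map_mul, map_inv, hy'img, hinvx, inv_mul_cancel]
    exact eq_inv_of_mul_eq_one_left (hd1 _ hmem ((L.ker_img hC _).1 hQ'))
  have hy'2 : (y' : G) * y' ∈ Q := (L.ker_img hC (y' * y')).1 (by
    rw [map_mul, hy'img, mul_self_of_orderOf ha])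
  refine ⟨y', y'.2, orderOf_eq_prime ?_ ?_, fun e => ?_⟩
  · by_contra hne
    rw [pow_two] at hne
    have hc : Commute (x : G) ((y' : G) * y') := by
      refine (mul_inv_eq_iff_eq_mul.1 ?_ : _).symm
      calc (y' : G) * y' * x * ((y' : G) * y')⁻¹
            = y' * ((y' : G) * x * (y' : G)⁻¹) * (y' : G)⁻¹ := by group
        _ = (y' : G) * (x : G)⁻¹ * (y' : G)⁻¹ := by rw [hy'x]
        _ = ((y' : G) * x * (y' : G)⁻¹)⁻¹ := by group
        _ = x := by rw [hy'x, inv_inv]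
    have hx1 := eq_one_of_odd_commute hC L.two hy'2 hne hc hxodd
    exact himg1 (by rw [show x = 1 from Subtype.ext hx1, map_one])
  · intro e
    rw [show y' = 1 from Subtype.ext e, map_one] at hy'img
    rw [← hy'img, orderOf_one] at ha
    omega
  · rw [(L.ker_img hC y').2 e] at hy'img
    rw [← hy'img, orderOf_one] at ha
    omega

theorem Loc.not_embedded [Finite G] [IsSimpleGroup G] (hC : CIT G) {H Q : Subgroup G}
    (L : Loc H Q) (hH : H ≠ ⊤) {R : Subgroup G} (hR : R ≤ H) (hR2 : IsPGroup 2 R)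
    (hRQ : ¬ R ≤ Q) : ¬ Embedded H := by
  intro hE
  obtain ⟨t, ht, hto, htQ⟩ := L.exists_invol_notMem hC hR hR2 hRQ
  obtain ⟨z, hz, hzo⟩ := exists_invol L.two L.ne
  obtain ⟨g, hg, he⟩ := hE.exists_conj hH (L.le hz) hzo ht hto
  exact htQ (he ▸ (mem_normalizer_iff.1 (L.norm hg) z).1 hz)

end Cfsg.Agent.CITPair
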