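import Cfsg.Agent.CITPair.Step
import Cfsg.Agent.SuzukiTI.Setting
import Cfsg.Agent.S0204

/-!
# A simple CIT group is either a TI group or contains a pair of elementary abelian subgroups
-/

set_option autoImplicit false

namespace Cfsg.Agent.CITPair

open Subgroup

universe u

variable {G : Type u} [Group G]

/-- Two elementary abelian subgroups `V`, `V'` with the same Sylow `2`-subgroup `T = V V'` in their
normalisers, each an offender on the other. -/
structure Config (T V V' : Subgroup G) (q : ℕ) : Prop where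
  par : Par (normalizer (V : Set G)) V T q
  par' : Par (normalizer (V' : Set G)) V' T q
  eqV : V = VV V
  eqV' : V' = VV V'
  sup : T = V ⊔ V'
  inf : V ⊓ V' = V ⊓ centralizer (T : Set G)

theorem Par.enlarge {N Q T : Subgroup G} {q : ℕ} (P : Par N Q T q)
    (hsyl : ∀ R : Subgroup G, R ≤ normalizer (Q : Set G) → IsPGroup 2 R → T ≤ R → R = T) :
    Par (normalizer (Q : Set G)) Q T q :=
  { P with
    loc := ⟨P.loc.ne, P.loc.two, le_normalizer, le_rfl, fun M hM hM2 hMn => by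
      have hMT : M ≤ T := by
        have h := hsyl (T ⊔ M) (sup_le (P.le.trans P.loc.norm) hM)
          (P.two.to_sup_of_normal_right' hM2 ((P.le.trans P.loc.norm).trans hMn)) le_sup_left
        exact h ▸ le_sup_right
      exact P.loc.max M (hMT.trans P.le) hM2 (P.loc.norm.trans hMn)⟩
    le := P.le.trans P.loc.norm
    syl := hsyl
    three := by
      obtain ⟨x, hx, h⟩ := P.three
      exact ⟨x, P.loc.norm hx, h⟩ }

variable [Finite G]

theorem exists_config_of_pair (hC : CIT G) {N Q T N' Q' A : Subgroup G} {q : ℕ} (P : Par N Q T q)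
    (L' : Loc N' Q') (hT' : T ≤ N')
    (hsyl' : ∀ R : Subgroup G, R ≤ N' → IsPGroup 2 R → T ≤ R → R = T) (hne : T ≠ Q')
    (hA : MaxEA T A) (hAQ : ¬ A ≤ Q)
    (hs : ∀ R : Subgroup G, R ≤ normalizer (Q : Set G) → IsPGroup 2 R → T ≤ R → R = T)
    (hs' : ∀ R : Subgroup G, R ≤ normalizer (Q' : Set G) → IsPGroup 2 R → T ≤ R → R = T)
    (hne1 : Q' ≠ Q) (hne2 : sqC Q = sqC Q' → sqC Q = ⊥) :
    ∃ (T V V' : Subgroup G) (q : ℕ), Config T V V' q := by
  rcases P.pair hC L' hT' hsyl' hne hA hAQ with h | ⟨h1, h2⟩ | ⟨e1, e2, e3, e4, P'⟩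
  · exact absurd h hne1
  · exact absurd (hne2 h1) h2
  · refine ⟨T, Q, Q', q, P.enlarge hs, P'.enlarge hs', e1, e2, ?_, ?_⟩
    · rw [e3, ← e1, ← e2]
    · rw [← e1, ← e2] at e4
      exact e4

theorem cj_cj_inv (g : G) (A : Subgroup G) : cj g (cj g⁻¹ A) = A := by
  rw [← cj_mul, mul_inv_cancel, cj_one]

theorem cj_inv_cj (g : G) (A : Subgroup G) : cj g⁻¹ (cj g A) = A := by
  rw [← cj_mul, inv_mul_cancel, cj_one]

theorem Loc.conj {N Q : Subgroup G} (L : Loc N Q) (g : G) : Loc (cj g N) (cj g Q) := by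
  refine ⟨cj_ne_bot L.ne, isPGroup_cj L.two, cj_le_cj L.le, ?_, fun M hM hM2 hMn => ?_⟩
  · rw [cj_normalizer]
    exact cj_le_cj L.norm
  · rw [← le_iff_cj_le g⁻¹, cj_inv_cj]
    refine L.max _ ?_ (isPGroup_cj hM2) ?_
    · rw [← le_iff_cj_le g, cj_cj_inv]; exact hM
    · rw [cj_normalizer, ← le_iff_cj_le g, cj_cj_inv]; exact hMn

theorem syl_conj {N T : Subgroup G}
    (h : ∀ P : Subgroup G, P ≤ N → IsPGroup 2 P → T ≤ P → P = T) (g : G) :
    ∀ P : Subgroup G, P ≤ cj g N → IsPGroup 2 P → cj g T ≤ P → P = cj g T := by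
  intro P hP hP2 hTP
  rw [← h (cj g⁻¹ P) ?_ (isPGroup_cj hP2) ?_, cj_cj_inv]
  · rw [← le_iff_cj_le g, cj_cj_inv]; exact hP
  · rw [← le_iff_cj_le g, cj_cj_inv]; exact hTP

theorem Step.exists_maxEA_nle {H N Q T : Subgroup G} (St : Step H N Q T)
    (h : JJ T ≠ ⊥ → normalizer (JJ T : Set G) ≤ H ∨
      ∃ (P : Subgroup G) (g : G), IsPGroup 2 P ∧ g ∈ P ∧ g ∉ T ∧ g ∈ normalizer (T : Set G)) :
    ∃ A, MaxEA T A ∧ ¬ A ≤ Q := by
  by_contra! hall
  have hN : N ≤ normalizer (JJ T : Set G) :=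
    JJ_eq_of_forall_le St.Qle hall ▸ St.loc.norm.trans (normalizer_le_JJ Q)
  have hTne : T ≠ ⊥ := fun e => St.loc.ne (le_bot_iff.1 (e ▸ St.Qle))
  have hnle : ¬ normalizer (JJ T : Set G) ≤ H := fun h' => St.nle (hN.trans h')
  rcases h (JJ_ne_bot St.two hTne) with h' | ⟨P, g, hP, hgP, hgT, hg⟩
  · exact hnle h'
  · exact St.false_of_normalizing (JJ_ne_bot St.two hTne) (JJ_le T) hnle (St.TN.trans hN) hP hgP hgT
      hg (normalizer_le_JJ T hg)

/-- The case in which `T` is not a Sylow `2`-subgroup of `H`. -/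
theorem Step.config_of_lt (hC : CIT G) {H N Q T P : Subgroup G} (St : Step H N Q T)
    (hP : IsPGroup 2 P) (hPH : P ≤ H) (hTP : T < P) : ∃ (T V V' : Subgroup G) (q : ℕ), Config T V V' q := by
  haveI : Fact (Nat.Prime 2) := ⟨Nat.prime_two⟩
  obtain ⟨g, hgP, hgT, hg⟩ := exists_normalizing hP hTP
  obtain ⟨A, hA, hAQ⟩ := St.exists_maxEA_nle fun _ => Or.inr ⟨P, g, hP, hgP, hgT, hg⟩
  obtain ⟨q, Pr⟩ := exists_par hC St.loc St.TN St.two St.syl hA hAQ
  have hTn : cj g T = T := cj_eq_self_iff.2 hg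
  have hgH : g ∈ H := hPH hgP
  have L' := St.loc.conj g
  have hne : T ≠ cj g Q := fun e => St.ne (by
    have := congrArg (cj g⁻¹) (hTn.trans e)
    rwa [cj_inv_cj, cj_inv_cj] at this)
  have hnle' : ¬ cj g N ≤ H := fun h => St.nle (by
    rw [← cj_le_self hgH] at h
    exact (le_iff_cj_le g).1 h)
  have hQ'T : cj g Q ≤ T := hTn ▸ cj_le_cj St.Qle
  have hnQ : ¬ normalizer (Q : Set G) ≤ H := fun h => St.nle (St.loc.norm.trans h)
  have hnQ' : ¬ normalizer (cj g Q : Set G) ≤ H := fun h => hnle' (L'.norm.trans h)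
  refine exists_config_of_pair hC Pr L' (hTn ▸ cj_le_cj St.TN) (hTn ▸ syl_conj St.syl g) hne hA hAQ
    (St.syl_normalizer St.loc.ne St.Qle hnQ (St.TN.trans St.loc.norm))
    (St.syl_normalizer L'.ne hQ'T hnQ' ((hTn ▸ cj_le_cj St.TN).trans L'.norm)) (fun e => ?_)
    fun e => by_contra fun hsq => ?_
  · exact St.false_of_normalizing St.loc.ne St.Qle hnQ (St.TN.trans St.loc.norm) hP hgP hgT hg
      (cj_eq_self_iff.1 e)
  · have hNsq := St.loc.norm.trans (normalizer_le_sqC Q)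
    exact St.false_of_normalizing hsq ((sqC_le Q).trans St.Qle)
      (fun h => St.nle (hNsq.trans h)) (St.TN.trans hNsq) hP hgP hgT hg
      (cj_eq_self_iff.1 (by rw [sqC_cj, ← e]))

/-- A non-TI Sylow subgroup gives a `2`-subgroup of `H` with normaliser outside `H`. -/
theorem exists_outside [IsSimpleGroup G] (hC : CIT G) (S : Sylow 2 G) {H : Subgroup G} (hH : H ≠ ⊤)
    (hS : (S : Subgroup G) ≤ H) (hN : normalizer ((S : Subgroup G) : Set G) ≤ H)
    {U : Subgroup G} (hU : U ≠ ⊥) (hU2 : IsPGroup 2 U) (hUH : U ≤ H)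
    (hUn : H ≤ normalizer (U : Set G))
    (hTI : ∃ g : G, g ∉ normalizer ((S : Subgroup G) : Set G) ∧
      (S : Subgroup G) ⊓ cj g (S : Subgroup G) ≠ ⊥) :
    ∃ R : Subgroup G, R ≤ H ∧ IsPGroup 2 R ∧ R ≠ ⊥ ∧ ¬ normalizer (R : Set G) ≤ H := by
  haveI : Fact (Nat.Prime 2) := ⟨Nat.prime_two⟩
  by_contra! hall
  have hE : Embedded H := by
    intro g t ht hto hgt
    obtain ⟨P, ⟨hPH, hPg, hP2, hP1⟩, hmax⟩ := Set.exists_max_image
      {P : Subgroup G | P ≤ H ∧ cj g P ≤ H ∧ IsPGroup 2 P ∧ P ≠ ⊥} (fun P => Nat.card P)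
      (Set.toFinite _) ⟨zpowers t, zpowers_le.2 ht, by
        rw [cj, MonoidHom.map_zpowers, zpowers_le]; exact hgt,
        IsPGroup.of_card (n := 1) (by rw [Nat.card_zpowers, hto, pow_one]), fun e => by
        rw [zpowers_eq_bot] at e
        rw [e, orderOf_one] at hto
        omega⟩
    have hPcard : ∀ R : Subgroup G, IsPGroup 2 R → P ≤ R → R = P := by
      intro R hR hPR
      by_contra hne
      obtain ⟨x, hxR, hxP, hx⟩ := exists_normalizing hR (lt_of_le_of_ne hPR (Ne.symm hne))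
      have h1 : P ⊔ zpowers x ≤ normalizer (P : Set G) := sup_le le_normalizer (zpowers_le.2 hx)
      have h2 : cj g (P ⊔ zpowers x) ≤ H :=
        (cj_le_cj h1).trans ((cj_normalizer g P).ge.trans (hall _ hPg (isPGroup_cj hP2) (cj_ne_bot hP1)))
      have h3 := hmax (P ⊔ zpowers x) ⟨h1.trans (hall P hPH hP2 hP1), h2,
        hP2.to_sup_of_normal_left' (hR.to_le (zpowers_le.2 hxR)) (zpowers_le.2 hx),
        fun e => hP1 (le_bot_iff.1 (e ▸ le_sup_left))⟩
      exact hxP ((eq_of_le_of_card_ge le_sup_left h3).symm ▸ mem_sup_right (mem_zpowers x))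
    obtain ⟨h, hh, hle⟩ := exists_le_cj hS hPH hP2
    obtain ⟨h', hh', hle'⟩ := exists_le_cj hS hPg (isPGroup_cj hP2)
    have e1 := hPcard _ (isPGroup_cj S.2) hle
    have e2 : cj g P = cj h' (S : Subgroup G) := by
      refine eq_of_le_of_card_ge hle' (le_of_eq ?_)
      rw [card_cj, card_cj, ← e1, card_cj]
    have : h'⁻¹ * g * h ∈ normalizer ((S : Subgroup G) : Set G) := by
      rw [← cj_eq_self_iff, cj_mul, cj_mul, e1, e2, cj_inv_cj]
    have h4 := mul_mem (mul_mem hh' (hN this)) (H.inv_mem hh)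
    simpa [mul_assoc] using h4
  obtain ⟨Q, L, -⟩ := Loc.exists_of_normal hU hU2 hUH hUn
  by_cases hSQ : (S : Subgroup G) ≤ Q
  · have hSQ' : (S : Subgroup G) = Q := (S.is_maximal' L.two hSQ).symm
    obtain ⟨g, hg, hne⟩ := hTI
    obtain ⟨y, hy, hyo⟩ := exists_invol (S.2.to_le inf_le_left) hne
    obtain ⟨hy1, hy2⟩ := mem_inf.1 hy
    refine hg ?_
    have := hE g⁻¹ y (hS hy1) hyo (by
      rw [inv_inv]; exact hS (mem_cj.1 hy2))
    rw [hSQ']
    exact L.norm (H.inv_mem_iff.1 this)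
  · exact L.not_embedded hC hH hS S.2 hSQ hE

/-- A simple CIT group with a Sylow `2`-subgroup which is not TI contains a configuration. -/
theorem exists_config [IsSimpleGroup G] (hC : CIT G) (hna : ∃ a b : G, a * b ≠ b * a)
    (S : Sylow 2 G) (hTI : ∃ g : G, g ∉ normalizer ((S : Subgroup G) : Set G) ∧
      (S : Subgroup G) ⊓ cj g (S : Subgroup G) ≠ ⊥) :
    ∃ (T V V' : Subgroup G) (q : ℕ), Config T V V' q := by
  classical
  haveI : Fact (Nat.Prime 2) := ⟨Nat.prime_two⟩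
  have hproper : ∀ U : Subgroup G, IsPGroup 2 U → U ≠ ⊥ → normalizer (U : Set G) ≠ ⊤ := by
    intro U hU hU1 e
    haveI := normalizer_eq_top_iff.1 e
    rcases (inferInstance : U.Normal).eq_bot_or_eq_top with h | h
    · exact hU1 h
    · haveI : Nontrivial G := IsSimpleGroup.toNontrivial
      have hG : IsPGroup 2 G := (h ▸ hU : IsPGroup 2 (⊤ : Subgroup G)).of_equiv topEquiv
      haveI := hG.center_nontrivial
      rcases (inferInstance : (center G).Normal).eq_bot_or_eq_top with hc | hc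
      · exact (center G).nontrivial_iff_ne_bot.1 inferInstance hc
      · obtain ⟨a, b, hab⟩ := hna
        exact hab ((mem_center_iff.1 (hc ▸ mem_top a) b).symm)
  have hSne : (S : Subgroup G) ≠ ⊥ := fun e => by
    obtain ⟨g, -, hne⟩ := hTI
    exact hne (by rw [e, bot_inf_eq])
  have hmaxS : ∀ P : Subgroup G, IsPGroup 2 P → (S : Subgroup G) ≤ P → P = (S : Subgroup G) :=
    fun P hP h => S.is_maximal' hP h
  -- the first step, from the normaliser of the Thompson subgroup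
  set H₀ := normalizer (JJ (S : Subgroup G) : Set G) with hH₀
  have hJ := JJ_ne_bot S.2 hSne
  have hN₀ : normalizer ((S : Subgroup G) : Set G) ≤ H₀ := normalizer_le_JJ _
  have hS₀ : (S : Subgroup G) ≤ H₀ := le_normalizer.trans hN₀
  obtain ⟨R, hR, hR2, hR1, hRn⟩ := exists_outside hC S (hproper _ (S.2.to_le (JJ_le _)) hJ) hS₀ hN₀
    hJ (S.2.to_le (JJ_le _)) le_normalizer le_rfl hTI
  obtain ⟨N, Q, T, St⟩ := exists_step hS₀ hN₀ hR hR2 hR1 hRn
  obtain ⟨h, hh, hTS⟩ := exists_le_cj hS₀ St.TH St.two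
  rcases eq_or_lt_of_le hTS with hTeq | hlt
  swap
  · exact St.config_of_lt hC (isPGroup_cj S.2)
      ((cj_le_cj hS₀).trans (cj_le_self hh).le) hlt
  have hJT : JJ T = JJ (S : Subgroup G) := by
    rw [hTeq, ← cj_JJ, cj_eq_self_iff.2 hh]
  obtain ⟨A, hA, hAQ⟩ := St.exists_maxEA_nle fun _ => Or.inl (by rw [hJT])
  let S' : Sylow 2 G := h • S
  have hS' : (S' : Subgroup G) = T := by rw [hTeq]; rfl
  have hsylT : ∀ K P : Subgroup G, P ≤ K → IsPGroup 2 P → T ≤ P → P = T := fun K P _ hP hTP => by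
    rw [← hS'] at hTP ⊢
    exact S'.is_maximal' hP hTP
  -- a maximal subgroup with a nontrivial normal 2-subgroup above `N`
  obtain ⟨H, ⟨hNH, U, hU1, hU2, hUH, hUn⟩, hmax⟩ := Set.exists_max_image
    {M : Subgroup G | N ≤ M ∧ ∃ U : Subgroup G, U ≠ ⊥ ∧ IsPGroup 2 U ∧ U ≤ M ∧
      M ≤ normalizer (U : Set G)} (fun M => Nat.card M) (Set.toFinite _)
    ⟨N, le_rfl, Q, St.loc.ne, St.loc.two, St.loc.le, St.loc.norm⟩
  have hmax' : ∀ U : Subgroup G, U ≠ ⊥ → IsPGroup 2 U → H ≤ normalizer (U : Set G) →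
      normalizer (U : Set G) = H := fun U h1 h2 h3 =>
    (eq_of_le_of_card_ge h3 (hmax _ ⟨hNH.trans h3, U, h1, h2, le_normalizer, le_rfl⟩)).symm
  obtain ⟨Q₁, L₁, -⟩ := Loc.exists_of_normal hU1 hU2 hUH hUn
  have hTH : T ≤ H := St.TN.trans hNH
  have hQ₁T : Q₁ ≤ T := by
    have h := hsylT H (T ⊔ Q₁) (sup_le hTH L₁.le)
      (St.two.to_sup_of_normal_right' L₁.two (hTH.trans L₁.norm)) le_sup_left
    exact h ▸ le_sup_right
  have hQ₁Q : Q₁ ≤ Q := St.loc.max Q₁ (hQ₁T.trans St.TN) L₁.two (hNH.trans L₁.norm)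
  have hAQ₁ : ¬ A ≤ Q₁ := fun h => hAQ (h.trans hQ₁Q)
  have hne₁ : T ≠ Q₁ := fun e => hAQ₁ (e ▸ hA.le)
  obtain ⟨q, P₁⟩ := exists_par hC L₁ hTH St.two (hsylT H) hA hAQ₁
  by_cases hNT : normalizer (T : Set G) ≤ H
  swap
  · obtain ⟨g, hg, hgH⟩ := SetLike.not_le_iff_exists.1 hNT
    have hTn : cj g T = T := cj_eq_self_iff.2 hg
    have hne : T ≠ cj g Q₁ := fun e => hne₁ (by
      have := congrArg (cj g⁻¹) (hTn.trans e)
      rwa [cj_inv_cj, cj_inv_cj] at this)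
    refine exists_config_of_pair hC P₁ (L₁.conj g) (hTn ▸ cj_le_cj hTH)
      (hsylT _) hne hA hAQ₁ (hsylT _) (hsylT _) (fun e => hgH ?_) fun e => by_contra fun hsq => hgH ?_
    · rw [← hmax' Q₁ L₁.ne L₁.two L₁.norm]
      exact cj_eq_self_iff.1 e
    · rw [← hmax' _ hsq (L₁.two.to_le (sqC_le _)) (L₁.norm.trans (normalizer_le_sqC _))]
      exact cj_eq_self_iff.1 (by rw [sqC_cj, ← e])
  -- the second step, from the maximal subgroup
  have hN' : normalizer ((S' : Subgroup G) : Set G) ≤ H := hS' ▸ hNT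
  obtain ⟨g₀, hg₀, hTI₀⟩ := hTI
  have hS'cj : (S' : Subgroup G) = cj h (S : Subgroup G) := rfl
  have hTI' : ∃ g : G, g ∉ normalizer ((S' : Subgroup G) : Set G) ∧
      (S' : Subgroup G) ⊓ cj g (S' : Subgroup G) ≠ ⊥ := by
    refine ⟨h * g₀ * h⁻¹, fun e => hg₀ ?_, ?_⟩
    · rw [hS'cj, cj_normalizer, mem_cj] at e
      simpa [mul_assoc] using e
    · rw [hS'cj, cj_mul (h * g₀), cj_inv_cj, cj_mul, cj, cj]
      rw [← map_inf _ _ _ (MulAut.conj h).injective]
      exact cj_ne_bot hTI₀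
  obtain ⟨R, hR, hR2, hR1, hRn⟩ := exists_outside hC S'
    (fun e => hproper _ L₁.two L₁.ne (top_le_iff.1 (e ▸ L₁.norm))) (hS' ▸ hTH) hN'
    L₁.ne L₁.two L₁.le L₁.norm hTI'
  obtain ⟨N', Q', T', St'⟩ := exists_step (hS' ▸ hTH) hN' hR hR2 hR1 hRn
  obtain ⟨k, hk, hTS'⟩ := exists_le_cj (hS' ▸ hTH : (S' : Subgroup G) ≤ H) St'.TH St'.two
  rcases eq_or_lt_of_le hTS' with hT'eq | hlt'
  swap
  · exact St'.config_of_lt hC (isPGroup_cj S'.2)
      ((cj_le_cj (hS' ▸ hTH)).trans (cj_le_self hk).le) hlt'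
  rw [hS'] at hT'eq
  have hL : cj k Q₁ = Q₁ := cj_eq_self_iff.2 (L₁.norm hk)
  have hAk : ¬ cj k A ≤ Q₁ := fun e => hAQ₁ ((le_iff_cj_le k).1 (hL.symm ▸ e))
  have hsylT' : ∀ K P : Subgroup G, P ≤ K → IsPGroup 2 P → T' ≤ P → P = T' := by
    intro K P _ hP hTP
    rw [hT'eq] at hTP ⊢
    have : P ≤ cj k ⊤ := fun x _ => mem_cj.2 (mem_top _)
    exact syl_conj (hsylT ⊤) k P this hP hTP
  have hA' : MaxEA T' (cj k A) := hT'eq ▸ hA.conj k
  obtain ⟨q', P₂⟩ := exists_par hC L₁ St'.TH St'.two (hsylT' H) hA' hAk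
  refine exists_config_of_pair hC P₂ St'.loc St'.TN St'.syl St'.ne hA' hAk (hsylT' _) (hsylT' _)
    (fun e => St'.nle ?_) fun e => by_contra fun hsq => St'.nle ?_
  · rw [← hmax' Q₁ L₁.ne L₁.two L₁.norm, ← e]
    exact St'.loc.norm
  · rw [← hmax' _ hsq (L₁.two.to_le (sqC_le _)) (L₁.norm.trans (normalizer_le_sqC _)), e]
    exact St'.loc.norm.trans (normalizer_le_sqC _)

end Cfsg.Agent.CITPair
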