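import Mathlib

/-!
# The torus, the Weyl element and the Borel subgroup of `SL(2, q)` for even `q`
-/

set_option autoImplicit false

namespace Cfsg.Agent.CITPair

open Matrix

variable {F : Type*} [Field F]

/-- Upper unitriangular matrices. -/
def upU (c : F) : SpecialLinearGroup (Fin 2) F := ⟨!![1, c; 0, 1], by simp [det_fin_two]⟩

/-- A diagonal matrix. -/
def diagM (u : Fˣ) : SpecialLinearGroup (Fin 2) F :=
  ⟨!![(u : F), 0; 0, ((u⁻¹ : Fˣ) : F)], by simp [det_fin_two]⟩

/-- The Weyl element in characteristic two. -/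
def weyl [CharP F 2] : SpecialLinearGroup (Fin 2) F :=
  ⟨!![0, 1; 1, 0], by rw [det_fin_two]; simp [CharTwo.neg_eq]⟩

@[simp] theorem coe_upU (c : F) : (upU c : Matrix (Fin 2) (Fin 2) F) = !![1, c; 0, 1] := rfl

@[simp] theorem coe_diagM (u : Fˣ) :
    (diagM u : Matrix (Fin 2) (Fin 2) F) = !![(u : F), 0; 0, ((u⁻¹ : Fˣ) : F)] := rfl

@[simp] theorem coe_weyl [CharP F 2] :
    ((weyl : SpecialLinearGroup (Fin 2) F) : Matrix (Fin 2) (Fin 2) F) = !![0, 1; 1, 0] := rfl

theorem coe_inj {g h : SpecialLinearGroup (Fin 2) F}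
    (e : (g : Matrix (Fin 2) (Fin 2) F) = (h : Matrix (Fin 2) (Fin 2) F)) : g = h := Subtype.ext e

/-- The diagonal torus. -/
def diagT : Fˣ →* SpecialLinearGroup (Fin 2) F where
  toFun := diagM
  map_one' := coe_inj (by simp [one_fin_two])
  map_mul' u v := coe_inj (by simp [mul_comm])

@[simp] theorem coe_diagT (u : Fˣ) :
    (diagT u : Matrix (Fin 2) (Fin 2) F) = !![(u : F), 0; 0, ((u⁻¹ : Fˣ) : F)] := rfl

theorem upU_add (c d : F) : upU c * upU d = upU (c + d) := by
  exact coe_inj (by simp [add_comm])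

variable (F) in
/-- The group of upper unitriangular matrices. -/
def upGroup : Subgroup (SpecialLinearGroup (Fin 2) F) where
  carrier := Set.range upU
  one_mem' := ⟨0, coe_inj (by simp [one_fin_two])⟩
  mul_mem' := by rintro _ _ ⟨c, rfl⟩ ⟨d, rfl⟩; exact ⟨c + d, (upU_add c d).symm⟩
  inv_mem' := by
    rintro _ ⟨c, rfl⟩
    refine ⟨-c, (inv_eq_of_mul_eq_one_right ?_).symm⟩
    rw [upU_add, add_neg_cancel]
    exact coe_inj (by simp [one_fin_two])

theorem upU_injective : Function.Injective (upU : F → SpecialLinearGroup (Fin 2) F) := fun c d h => by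
  have := congrFun (congrFun (congrArg Subtype.val h) 0) 1
  simpa [upU] using this

theorem card_upGroup : Nat.card (upGroup F) = Nat.card F :=
  (Nat.card_range_of_injective upU_injective : Nat.card (Set.range (upU (F := F))) = Nat.card F)

theorem diagT_injective : Function.Injective (diagT : Fˣ →* SpecialLinearGroup (Fin 2) F) :=
  fun u v h => by
  have := congrFun (congrFun (congrArg (fun g : SpecialLinearGroup (Fin 2) F =>
    (g : Matrix (Fin 2) (Fin 2) F)) h) 0) 0
  exact Units.ext (by simpa using this)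

theorem eq_of_lower_zero {g : SpecialLinearGroup (Fin 2) F} (hz : g.1 1 0 = 0) :
    ∃ (u : Fˣ) (c : F), g = diagT u * upU c := by
  have hdet : g.1 0 0 * g.1 1 1 = 1 := by
    have := g.2
    rw [det_fin_two, hz, mul_zero, sub_zero] at this
    exact this
  refine ⟨Units.mkOfMulEqOne _ _ hdet, g.1 0 1 * g.1 1 1, coe_inj ?_⟩
  show g.1 = !![((Units.mkOfMulEqOne _ _ hdet : Fˣ) : F), 0; 0,
    (((Units.mkOfMulEqOne _ _ hdet)⁻¹ : Fˣ) : F)] * !![1, g.1 0 1 * g.1 1 1; 0, 1]
  rw [mul_fin_two]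
  ext i j
  fin_cases i <;> fin_cases j <;>
    simp [hz, mul_left_comm (g.1 0 0), hdet, inv_eq_of_mul_eq_one_right hdet]

theorem lower_zero_of_conj {g : SpecialLinearGroup (Fin 2) F} {c : F}
    (h : g * upU 1 = upU c * g) : g.1 1 0 = 0 := by
  have h1 : g.1 * !![1, (1 : F); 0, 1] = !![1, c; 0, 1] * g.1 := congrArg Subtype.val h
  have h11 := congrFun (congrFun h1 1) 1
  simp [Matrix.mul_apply, Fin.sum_univ_two] at h11
  exact h11

variable [CharP F 2]

theorem mem_upGroup_of_commute {g : SpecialLinearGroup (Fin 2) F} (h : g * upU 1 = upU 1 * g) :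
    g ∈ upGroup F := by
  obtain ⟨u, c, rfl⟩ := eq_of_lower_zero (lower_zero_of_conj h)
  have h1 := congrArg (fun g : SpecialLinearGroup (Fin 2) F => (g : Matrix (Fin 2) (Fin 2) F)) h
  have h01 := congrFun (congrFun h1 0) 1
  simp at h01
  have hu : (u : F) * u = 1 := by
    have hi : (u : F) = ((u⁻¹ : Fˣ) : F) := by
      rw [add_comm] at h01
      simpa using add_left_cancel h01
    nth_rw 2 [hi]
    exact Units.mul_inv u
  have hu1 : u = 1 := by
    refine Units.ext ?_
    have hsq : ((u : F) + 1) * ((u : F) + 1) = 0 := by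
      rw [CharTwo.add_mul_self, hu, one_mul, CharTwo.add_self_eq_zero]
    have := mul_self_eq_zero.1 hsq
    rw [CharTwo.add_eq_zero] at this
    exact this
  rw [hu1, map_one, one_mul]
  exact ⟨c, rfl⟩

theorem isPGroup_upGroup : IsPGroup 2 (upGroup F) := by
  rintro ⟨_, c, rfl⟩
  refine ⟨1, Subtype.ext ?_⟩
  show upU c ^ 2 ^ 1 = 1
  rw [pow_one, pow_two, upU_add, CharTwo.add_self_eq_zero]
  exact coe_inj (by simp [one_fin_two])

theorem weyl_mul_self : (weyl : SpecialLinearGroup (Fin 2) F) * weyl = 1 := by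
  apply coe_inj
  simp [one_fin_two]

theorem weyl_braid :
    (weyl : SpecialLinearGroup (Fin 2) F) * upU 1 * weyl = upU 1 * weyl * upU 1 := by
  apply coe_inj
  simp [CharTwo.add_self_eq_zero]

theorem weyl_diagT (u : Fˣ) : weyl * diagT u * weyl = (diagT u)⁻¹ := by
  rw [← map_inv]
  apply coe_inj
  simp

theorem weyl_not_normalizer :
    (weyl : SpecialLinearGroup (Fin 2) F) * upU 1 * weyl⁻¹ ∉ upGroup F := by
  rintro ⟨c, hc⟩
  have h := lower_zero_of_conj (g := weyl) (c := c) (by rw [hc]; group)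
  simp at h

theorem diagT_conj (u : Fˣ) (c : F) : diagT u * upU c * (diagT u)⁻¹ = upU ((u : F) * u * c) := by
  rw [mul_inv_eq_iff_eq_mul]
  refine coe_inj ?_
  show (!![(u : F), 0; 0, ((u⁻¹ : Fˣ) : F)] * !![1, c; 0, 1] : Matrix (Fin 2) (Fin 2) F) =
    !![1, (u : F) * u * c; 0, 1] * !![(u : F), 0; 0, ((u⁻¹ : Fˣ) : F)]
  rw [mul_fin_two, mul_fin_two]
  ext i j
  fin_cases i <;> fin_cases j <;> simp [mul_assoc, mul_comm, mul_left_comm]

end Cfsg.Agent.CITPair
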