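import Cfsg.Agent.CITPair.OffenderThree
import Cfsg.Agent.CITPair.SL2Data

/-!
# The torus of the group generated by offenders
-/

set_option autoImplicit false

namespace Cfsg.Agent.CITPair

open Subgroup

universe u

variable {X : Type u} [Group X] {V : Type*} [CommGroup V] [MulDistribMulAction X V]
  [Finite X] [Finite V]

/-- Weyl element, torus generator and braid partner of an offender. -/
structure TorusData (B : Subgroup X) (h n a₁ : X) : Prop where
  hN : h ∈ normalizer (B : Set X)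
  ord : orderOf h = Nat.card B - 1
  nN : n ∉ normalizer (B : Set X)
  n2 : n * n = 1
  inv : n * h * n = h⁻¹
  a1 : a₁ ∈ B
  braid : n * a₁ * n = a₁ * n * a₁
  borel : ∀ y ∈ normalizer (B : Set X), ∃ k : ℕ, (h ^ k)⁻¹ * y ∈ B

theorem cj_cj_inv' (g : X) (A : Subgroup X) : cj g (cj g⁻¹ A) = A := by
  rw [← cj_mul, mul_inv_cancel, cj_one]

theorem Offender.exists_torus {B : Subgroup X} (H : FPFAct X V) (O : Offender V B)
    (h4 : 3 ≤ Nat.card B) : ∃ h n a₁, TorusData B h n a₁ := by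
  classical
  haveI : Fact (Nat.Prime 2) := ⟨Nat.prime_two⟩
  obtain ⟨F, _, _, _, -, ⟨e⟩, -⟩ := O.psl H h4
  -- the unitriangular group in `X` and the conjugate of `B` containing it
  set U := (upGroup F).map e.symm.toMonoidHom with hU
  have hU2 : IsPGroup 2 U := isPGroup_upGroup.map _
  set a := e.symm (upU 1) with ha
  have haU : a ∈ U := ⟨upU 1, ⟨1, rfl⟩, rfl⟩
  obtain ⟨P, hP⟩ := O.isPGroup.exists_le_sylow
  have hPB : (P : Subgroup X) = B := O.eq_of_isPGroup H P.2 hP
  obtain ⟨P', hP'⟩ := hU2.exists_le_sylow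
  obtain ⟨g, hg⟩ := MulAction.exists_smul_eq X P P'
  have hP'g : (P' : Subgroup X) = cj g B := by rw [← hg, ← hPB]; rfl
  have hCj : ∀ x ∈ cj g B, Commute x a := fun x hx =>
    (O.conj g).comm hx (hP'g ▸ hP' haU)
  have hUe : U = cj g B := by
    refine le_antisymm (hP'g ▸ hP') fun x hx => ?_
    have h1 : e x * upU 1 = upU 1 * e x := by
      have := congrArg e (hCj x hx).eq
      simpa [ha] using this
    exact ⟨e x, mem_upGroup_of_commute h1, by simp⟩
  have hq : Nat.card B = Fintype.card F := by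
    rw [← card_cj g, ← hUe, hU, card_map_of_injective (K := upGroup F) e.symm.injective, card_upGroup,
      Nat.card_eq_fintype_card]
  obtain ⟨ζ, hζ⟩ := IsCyclic.exists_generator (α := Fˣ)
  -- transport to `B`
  let c : X ≃* X := MulAut.conj g⁻¹
  have hc : ∀ x, c x = g⁻¹ * x * g := fun x => by simp [c]
  let f : Matrix.SpecialLinearGroup (Fin 2) F →* X := c.toMonoidHom.comp e.symm.toMonoidHom
  have hf : Function.Injective f := c.injective.comp e.symm.injective
  have hfs : Function.Surjective f := c.surjective.comp e.symm.surjective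
  have hfB : ∀ M, f M ∈ B ↔ M ∈ upGroup F := by
    intro M
    show c (e.symm M) ∈ B ↔ _
    rw [hc, ← mem_cj, ← hUe, hU]
    exact mem_map_iff_mem (f := e.symm.toMonoidHom) e.symm.injective
  have hfN : ∀ M, f M ∈ normalizer (B : Set X) ↔ M ∈ normalizer (upGroup F : Set _) := by
    intro M
    rw [mem_normalizer_iff, mem_normalizer_iff]
    refine ⟨fun h K => ?_, fun h x => ?_⟩
    · rw [← hfB, ← hfB, map_mul, map_mul, map_inv]
      exact h (f K)
    · obtain ⟨K, rfl⟩ := hfs x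
      rw [← map_inv, ← map_mul, ← map_mul, hfB, hfB]
      exact h K
  refine ⟨f (diagT ζ), f weyl, f (upU 1), ?_, ?_, ?_, ?_, ?_, ?_, ?_, ?_⟩
  · rw [hfN, mem_normalizer_iff]
    intro K
    constructor
    · rintro ⟨d, rfl⟩
      exact ⟨_, (diagT_conj ζ d).symm⟩
    · rintro ⟨d, hd⟩
      refine ⟨(ζ⁻¹ : Fˣ) * (ζ⁻¹ : Fˣ) * d, ?_⟩
      rw [← diagT_conj, hd, map_inv]
      group
  · rw [orderOf_injective f hf, orderOf_injective diagT diagT_injective,
      orderOf_eq_card_of_forall_mem_zpowers hζ, Nat.card_units, hq, Nat.card_eq_fintype_card]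
  · rw [hfN]
    exact fun h => weyl_not_normalizer ((mem_normalizer_iff.1 h (upU 1)).1 ⟨1, rfl⟩)
  · rw [← map_mul, weyl_mul_self, map_one]
  · rw [← map_mul, ← map_mul, ← map_inv, weyl_diagT]
  · exact (hfB _).2 ⟨1, rfl⟩
  · rw [← map_mul, ← map_mul, weyl_braid, map_mul, map_mul]
  · intro y hy
    obtain ⟨M, rfl⟩ := hfs y
    rw [hfN] at hy
    obtain ⟨d, hd⟩ := (mem_normalizer_iff.1 hy (upU 1)).1 ⟨1, rfl⟩
    obtain ⟨v, c', rfl⟩ := eq_of_lower_zero (lower_zero_of_conj (g := M) (c := d)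
      (by rw [hd]; group))
    obtain ⟨k, hk⟩ := (IsOfFinOrder.mem_powers_iff_mem_zpowers (isOfFinOrder_of_finite ζ)).2 (hζ v)
    refine ⟨k, ?_⟩
    rw [← map_pow, ← map_inv, ← map_mul, hfB, ← map_pow,
      show ζ ^ k = v from hk, inv_mul_cancel_left]
    exact ⟨c', rfl⟩

namespace TorusData

variable {B : Subgroup X} {h n a₁ : X} (H : FPFAct X V) (O : Offender V B)
  (D : TorusData B h n a₁)
include H O D

theorem pow_mem (k : ℕ) : h ^ k ∈ normalizer (B : Set X) := _root_.pow_mem D.hN k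

/-- The translate of the fixed points by the Weyl element is a complement. -/
theorem smul_n_mem {w : V} (hw : w ∈ fixOf V B) (hnw : n • w ∈ fixOf V B) : w = 1 := by
  by_contra hw1
  refine D.nN (cj_eq_self_iff.1 (O.eq_of_common_fix H (O.conj n) (v := n • w)
    (fun e => hw1 ?_) hnw (Offender.mem_fixOf_map.2 (by rwa [inv_smul_smul]))))
  rwa [smul_eq_iff_eq_inv_smul, smul_one] at e

theorem n_pow_smul (k : ℕ) (v : V) : n • h ^ k • v = (h ^ k)⁻¹ • n • v := by
  have hn : n⁻¹ = n := inv_eq_self D.n2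
  have e : n * h ^ k = (h ^ k)⁻¹ * n := by
    have e1 : n * h ^ k * n⁻¹ = (h ^ k)⁻¹ := by
      rw [← conj_pow, ← inv_pow]
      congr 1
      rw [hn, D.inv]
    rw [← e1, inv_mul_cancel_right]
  rw [← mul_smul, e, mul_smul]

/-- Elements of `N(B)` act on `V / W` as inverses of their action on `W`. -/
theorem inverse {y : X} (hy : y ∈ normalizer (B : Set X)) {w : V} (hw : w ∈ fixOf V B) :
    (y • n • w) * n • (y⁻¹ • w) ∈ fixOf V B := by
  obtain ⟨k, hk⟩ := D.borel y hy
  set a := (h ^ k)⁻¹ * y with ha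
  have hya : y = h ^ k * a := by rw [ha, mul_inv_cancel_left]
  have h1 : (y⁻¹ • w) = (h ^ k)⁻¹ • w := by
    rw [hya, mul_inv_rev, mul_smul]
    exact (O.smul_mem_fix H (inv_mem (D.pow_mem H O k)) hw) _ (inv_mem hk)
  have h2 : n • (h ^ k)⁻¹ • w = h ^ k • n • w := by
    rw [eq_comm, ← inv_smul_eq_iff.trans eq_comm, ← D.n_pow_smul H O k, smul_inv_smul]
  rw [h1, h2, hya, mul_smul, ← smul_mul', mul_comm]
  exact O.smul_mem_fix H (D.pow_mem H O k) (O.quad a hk (n • w))

theorem delta_a1 {w : V} (hw : w ∈ fixOf V B) : (n • w) * a₁ • (n • w) = w := by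
  set u := (n • w) * a₁ • (n • w) with hu
  have huW : u ∈ fixOf V B := O.quad a₁ D.a1 _
  have ha : a₁ • (n • w) = n • w * u := by rw [hu, ← mul_assoc, H.exp, one_mul]
  have h1 : (n * a₁ * n) • w = w * n • u := by
    rw [mul_smul, mul_smul, ha, smul_mul', smul_smul, D.n2, one_smul]
  have h2 : (a₁ * n * a₁) • w = n • w * u := by
    rw [mul_smul, mul_smul, hw a₁ D.a1, ha]
  rw [D.braid, h2] at h1
  have h3 : u * w = n • (w * u) := by
    rw [smul_mul', ← H.mul_eq_one]
    calc u * w * (n • w * n • u) = (n • w * u) * (w * n • u) := by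
          simp only [mul_comm, mul_left_comm, mul_assoc]
      _ = 1 := by rw [h1, H.exp]
  have h4 : w * u = 1 := D.smul_n_mem H O (mul_mem hw huW) (h3 ▸ mul_mem huW hw)
  exact ((H.mul_eq_one.1 h4)).symm

/-- The torus is transitive on the nontrivial fixed points. -/
theorem transitive {w w' : V} (hw : w ∈ fixOf V B) (hw1 : w ≠ 1) (hw' : w' ∈ fixOf V B)
    (hw'1 : w' ≠ 1) : ∃ k : ℕ, h ^ k • w = w' := by
  classical
  haveI := Fintype.ofFinite (fixOf V B)
  have hodd : Odd (orderOf h) := by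
    rw [D.ord]
    have := O.two_le_card H
    obtain ⟨j, hj⟩ := O.even_card
    exact ⟨j - 1, by omega⟩
  let f : Fin (orderOf h) → {u : fixOf V B // u ≠ 1} := fun k =>
    ⟨⟨h ^ (k : ℕ) • w, O.smul_mem_fix H (D.pow_mem H O k) hw⟩, fun e => hw1 (by
      have e' : h ^ (k : ℕ) • w = 1 := congrArg Subtype.val e
      rwa [smul_eq_iff_eq_inv_smul, smul_one] at e')⟩
  have hf : Function.Injective f := fun i j e => by
    have e1 : h ^ (i : ℕ) • w = h ^ (j : ℕ) • w := congrArg (fun u : {u : fixOf V B // u ≠ 1} =>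
      ((u : fixOf V B) : V)) e
    have e2 : ((h ^ (j : ℕ))⁻¹ * h ^ (i : ℕ)) • w = w := by rw [mul_smul, e1, inv_smul_smul]
    have e3 : (h ^ (j : ℕ))⁻¹ * h ^ (i : ℕ) = 1 := by
      by_contra hne
      refine hw1 (H.fpf _ hne (hodd.of_dvd_nat (orderOf_dvd_of_mem_zpowers ?_)) w e2)
      exact mul_mem (inv_mem (npow_mem_zpowers h _)) (npow_mem_zpowers h _)
    rw [inv_mul_eq_one] at e3
    exact Fin.ext (pow_injOn_Iio_orderOf i.2 j.2 e3.symm)
  have hcard : Nat.card (Fin (orderOf h)) = Nat.card {u : fixOf V B // u ≠ 1} := by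
    rw [Nat.card_fin, D.ord, O.card_eq H, Nat.card_eq_fintype_card, Nat.card_eq_fintype_card,
      Fintype.card_subtype_compl, Fintype.card_subtype_eq]
  obtain ⟨k, hk⟩ := ((Nat.bijective_iff_injective_and_card f).2 ⟨hf, hcard⟩).2
    ⟨⟨w', hw'⟩, fun e => hw'1 (congrArg Subtype.val e)⟩
  exact ⟨k, congrArg (fun u : {u : fixOf V B // u ≠ 1} => ((u : fixOf V B) : V)) hk⟩

/-- Conjugation by the torus on `B` is the square of the action on the fixed points. -/
theorem square {w : V} (hw : w ∈ fixOf V B) (hw1 : w ≠ 1) {a : X} (ha : a ∈ B) (k : ℕ) :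
    (n • w) * (h ^ k * a * (h ^ k)⁻¹) • (n • w) = h ^ (2 * k) • ((n • w) * a • (n • w)) := by
  have key : ∀ m : ℕ, (n • w) * (h ^ m * a₁ * (h ^ m)⁻¹) • (n • w) = h ^ (2 * m) • w := by
    intro m
    rw [mul_smul, mul_smul, ← D.n_pow_smul H O m]
    have h0 := D.delta_a1 H O (O.smul_mem_fix H (D.pow_mem H O m) hw)
    have : a₁ • n • h ^ m • w = n • h ^ m • w * h ^ m • w := by
      nth_rw 3 [← h0]
      rw [← mul_assoc, H.exp, one_mul]
    rw [this, smul_mul', D.n_pow_smul H O m, smul_inv_smul, ← mul_assoc, H.exp, one_mul, smul_smul,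
      ← pow_add, two_mul]
  by_cases ha1 : a = 1
  · rw [ha1, mul_one, mul_inv_cancel, one_smul, H.exp, smul_one]
  set u := (n • w) * a • (n • w) with hu
  have hu1 : u ≠ 1 := fun e => by
    have := (O.fixed_iff H ha ha1).1 (H.mul_eq_one.1 e).symm
    exact hw1 (D.smul_n_mem H O hw this)
  obtain ⟨j, hj⟩ := D.transitive H O hw hw1 (O.quad a ha (n • w)) hu1
  -- halve the exponent
  obtain ⟨l, hl⟩ : ∃ l : ℕ, h ^ (2 * l) = h ^ j := by
    have hord := D.ord
    obtain ⟨i, hi⟩ := O.even_card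
    have := O.two_le_card H
    refine ⟨j * i, ?_⟩
    rw [show 2 * (j * i) = orderOf h * j + j by
      rw [hord, hi]
      obtain ⟨i', rfl⟩ : ∃ i', i = i' + 1 := ⟨i - 1, by omega⟩
      rw [show 2 * (i' + 1) - 1 = 2 * i' + 1 by omega]
      ring, pow_add, pow_mul, pow_orderOf_eq_one, one_pow, one_mul]
  have hal : a = h ^ l * a₁ * (h ^ l)⁻¹ := by
    have hm : h ^ l * a₁ * (h ^ l)⁻¹ ∈ B := (mem_normalizer_iff.1 (D.pow_mem H O l) a₁).1 D.a1
    have he : (n • w) * (h ^ l * a₁ * (h ^ l)⁻¹) • (n • w) = u := by rw [key, hl, hj]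
    have he' := mul_left_cancel (he.trans hu)
    by_contra hne
    refine hw1 (D.smul_n_mem H O hw ((O.fixed_iff H (mul_mem (inv_mem hm) ha)
      (fun e => hne (inv_mul_eq_one.1 e).symm)).1 ?_))
    rw [mul_smul, inv_smul_eq_iff, he']
  rw [hal, show h ^ k * (h ^ l * a₁ * (h ^ l)⁻¹) * (h ^ k)⁻¹ = h ^ (k + l) * a₁ * (h ^ (k + l))⁻¹ by
    rw [pow_add]; group, key, hu, ← hj, smul_smul, mul_add, pow_add, hl]

end TorusData

end Cfsg.Agent.CITPair
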