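import Cfsg.Agent.CITPair.Exists
import Cfsg.Agent.CITPair.Torus

/-!
# In a configuration the field has at most four elements
-/

set_option autoImplicit false

namespace Cfsg.Agent.CITPair

open Subgroup

universe u

variable {G : Type u} [Group G] [Finite G]

namespace Config

variable {T V V' : Subgroup G} {q : ℕ} (C : Config T V V' q)
include C

theorem le_T : V ≤ T := C.sup ▸ le_sup_left

theorem le_T' : V' ≤ T := C.sup ▸ le_sup_right

theorem comm {x y : G} (hx : x ∈ V) (hy : y ∈ V) : Commute x y :=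
  VV_comm (C.eqV ▸ hx) (C.eqV ▸ hy)

theorem exp {x : G} (hx : x ∈ V) : x * x = 1 := (mem_VV.1 (C.eqV ▸ hx)).2.1

theorem exp' {x : G} (hx : x ∈ V') : x * x = 1 := (mem_VV.1 (C.eqV' ▸ hx)).2.1

theorem comm' {x y : G} (hx : x ∈ V') (hy : y ∈ V') : Commute x y :=
  VV_comm (C.eqV' ▸ hx) (C.eqV' ▸ hy)

omit [Finite G] in
theorem central_iff_mem_inf {x : G} (hx : x ∈ V) :
    x ∈ centralizer (T : Set G) ↔ x ∈ V' :=
  ⟨fun h => (C.inf.ge ⟨hx, h⟩).2, fun h => (C.inf.le ⟨hx, h⟩).2⟩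

theorem symm : Config T V' V q := by
  refine ⟨C.par', C.par, C.eqV', C.eqV, C.sup.trans (sup_comm _ _), ?_⟩
  refine eq_of_le_of_card_ge (fun x hx => ⟨hx.1, (C.inf.le ⟨hx.2, hx.1⟩).2⟩) (le_of_eq ?_)
  have h1 := C.par'.cardW
  rw [← C.eqV'] at h1
  have h2 := C.par.cardW
  rw [← C.eqV, ← C.inf] at h2
  rw [h1, inf_comm, h2]

theorem prod {x : G} (hx : x ∈ T) : ∃ v ∈ V, ∃ v' ∈ V', x = v * v' := by
  open scoped Pointwise in
  have hn : V' ≤ normalizer (V : Set G) := C.le_T'.trans C.par.le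
  rw [C.sup, ← SetLike.mem_coe, coe_mul_of_right_le_normalizer_left V V' hn] at hx
  obtain ⟨v, hv, v', hv', rfl⟩ := hx
  exact ⟨v, hv, v', hv', rfl⟩

/-- The involutions of `T` lie in `V` or in `V'`. -/
theorem mem_or_mem {x : G} (hx : x ∈ T) (hx2 : x * x = 1) : x ∈ V ∨ x ∈ V' := by
  obtain ⟨v, hv, v', hv', rfl⟩ := C.prod hx
  by_cases h : v' ∈ V
  · exact Or.inl (mul_mem hv h)
  refine Or.inr (mul_mem ?_ hv')
  refine (C.central_iff_mem_inf hv).1 (C.par.cent v' (C.le_T' hv') h v (C.eqV ▸ hv) ?_)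
  calc v' * v = (v * v')⁻¹ := by rw [mul_inv_rev, inv_eq_self (C.exp hv), inv_eq_self (C.exp' hv')]
    _ = v * v' := inv_eq_self hx2

theorem offIn : OffIn (normalizer (V : Set G)) V V' := by
  refine ⟨C.le_T'.trans C.par.le, fun b hb => C.exp' hb, fun h => ?_, fun b hb c hc v hv => ?_, ?_⟩
  · have h1 := C.par'.cardV
    rw [← C.eqV'] at h1
    have h2 := C.par.cardW
    rw [← C.eqV, ← C.inf, inf_of_le_right h, h1] at h2
    have := C.par.two_le
    nlinarith
  · have hv' : v ∈ V := C.eqV ▸ hv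
    refine C.comm' hc ?_
    rw [show v * (b * v * b⁻¹) = (v * b * v⁻¹) * b⁻¹ by
      rw [inv_eq_self hv.2.1]; simp only [mul_assoc]]
    exact mul_mem ((mem_normalizer_iff.1 (C.par'.le (C.le_T hv')) b).1 hb) (inv_mem hb)
  · have h1 : V ⊓ centralizer (V' : Set G) = V ⊓ centralizer (T : Set G) := by
      refine le_antisymm (fun x hx => ⟨hx.1, mem_centralizer_iff.2 fun t ht => ?_⟩)
        (inf_le_inf_left _ (centralizer_le C.le_T'))
      obtain ⟨v, hv, v', hv', rfl⟩ := C.prod ht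
      exact ((C.comm hv hx.1).mul_left (mem_centralizer_iff.1 hx.2 v' hv')).eq
    have h2 := C.par.cardW
    have h3 := C.par.cardV
    have h4 := C.par'.cardV
    rw [← C.eqV] at h2 h3
    rw [← C.eqV'] at h4
    rw [← C.eqV, inf_comm V' V, C.inf, h1, h2, h3, h4]

theorem card_img_offender (hC : CIT G) :
    Nat.card ((V'.subgroupOf (normalizer (V : Set G))).map (img C.par.loc)) = q := by
  have := card_inf_mul_card_map (img C.par.loc) (V'.subgroupOf (normalizer (V : Set G)))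
  rw [C.par.loc.card_ker_inf hC, subgroupOf_map_subtype, inf_of_le_left C.offIn.le,
    Nat.card_congr (subgroupOfEquivOfLe C.offIn.le).toEquiv] at this
  have h2 := C.par.cardW
  have h4 := C.par'.cardV
  rw [← C.eqV] at h2
  rw [← C.eqV'] at h4
  rw [inf_comm V' V, C.inf, h2, h4] at this
  exact Nat.eq_of_mul_eq_mul_left (by have := C.par.two_le; omega) this

theorem mem_T_of_img (hC : CIT G) {g : normalizer (V : Set G)}
    (hg : img C.par.loc g ∈ (V'.subgroupOf (normalizer (V : Set G))).map (img C.par.loc)) :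
    (g : G) ∈ T := by
  obtain ⟨b, hb, hbg⟩ := C.par.loc.mem_map_img.1 hg
  have h : ((b⁻¹ * g : normalizer (V : Set G)) : G) ∈ V := (C.par.loc.ker_img hC _).1 (by
    rw [map_mul, map_inv, hbg, inv_mul_cancel])
  have := mul_mem (C.le_T' hb) (C.le_T h)
  simpa using this

theorem img_mem_normalizer {g : normalizer (V : Set G)} (hg : (g : G) ∈ normalizer (V' : Set G)) :
    img C.par.loc g ∈ normalizer
      ((V'.subgroupOf (normalizer (V : Set G))).map (img C.par.loc) : Set (Img C.par.loc)) := by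
  refine le_normalizer_map _ ?_
  refine mem_map_of_mem _ (mem_normalizer_iff.2 fun x => ?_)
  simp only [mem_subgroupOf, coe_mul, coe_inv]
  exact mem_normalizer_iff.1 hg x

theorem mem_normalizer_of_img (hC : CIT G) {g : normalizer (V : Set G)}
    (hg : img C.par.loc g ∈ normalizer
      ((V'.subgroupOf (normalizer (V : Set G))).map (img C.par.loc) : Set (Img C.par.loc))) :
    (g : G) ∈ normalizer (V' : Set G) := by
  refine mem_normalizer_iff_map_conj_eq.2 (eq_of_le_of_card_ge ?_ (le_of_eq (card_cj (g : G) V').symm))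
  rintro _ ⟨b, hb, rfl⟩
  simp only [MonoidHom.coe_coe, MulAut.conj_apply]
  have hbN : b ∈ normalizer (V : Set G) := C.offIn.le hb
  have hT : (g : G) * b * (g : G)⁻¹ ∈ T := C.mem_T_of_img hC (g := g * ⟨b, hbN⟩ * g⁻¹) (by
    rw [map_mul, map_mul, map_inv]
    exact (mem_normalizer_iff.1 hg _).1 (C.par.loc.mem_map_img.2 ⟨⟨b, hbN⟩, hb, rfl⟩))
  rcases C.mem_or_mem hT (by
    rw [show (g : G) * b * (g : G)⁻¹ * ((g : G) * b * (g : G)⁻¹) = (g : G) * (b * b) * (g : G)⁻¹ by
      group, C.exp' hb]; group) with h | h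
  swap
  · exact h
  · have hbV : b ∈ V := (mem_normalizer_iff.1 g.2 b).2 h
    refine (C.central_iff_mem_inf h).1 (mem_centralizer_iff.2 fun t ht => ?_)
    have ht' : (g : G)⁻¹ * t * g ∈ T := by
      obtain ⟨v, hv, v', hv', rfl⟩ := C.prod ht
      have e1 : (g : G)⁻¹ * v * g ∈ T := C.le_T ((mem_normalizer_iff''.1 g.2 v).1 hv)
      have e2 : (g : G)⁻¹ * v' * g ∈ T := by
        refine C.mem_T_of_img hC (g := g⁻¹ * ⟨v', C.offIn.le hv'⟩ * g) ?_
        rw [map_mul, map_mul, map_inv]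
        exact (mem_normalizer_iff''.1 hg _).1
          (C.par.loc.mem_map_img.2 ⟨⟨v', C.offIn.le hv'⟩, hv', rfl⟩)
      have := mul_mem e1 e2
      rwa [show (g : G)⁻¹ * v * g * ((g : G)⁻¹ * v' * g) = (g : G)⁻¹ * (v * v') * g by group] at this
    have hc := mem_centralizer_iff.1 ((C.central_iff_mem_inf hbV).2 hb) _ ht'
    calc t * ((g : G) * b * (g : G)⁻¹) = g * ((g : G)⁻¹ * t * g * b) * (g : G)⁻¹ := by group
      _ = g * (b * ((g : G)⁻¹ * t * g)) * (g : G)⁻¹ := by rw [hc]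
      _ = g * b * (g : G)⁻¹ * t := by group

end Config

theorem eq_four_of_algebra {V : Type*} [CommGroup V] {h : ℤ → V → V} (w : V)
    (θ : V → V) (m : ℤ) (N : ℕ) (hN : Odd N) (hN1 : 1 < N)
    (hmul : ∀ i u v, h i (u * v) = h i u * h i v) (hadd : ∀ i j u, h i (h j u) = h (i + j) u)
    (hexp : ∀ u : V, u * u = 1) (heq : ∀ i j : ℤ, h i w = h j w ↔ (N : ℤ) ∣ i - j)
    (htrans : ∀ i : ℤ, ¬ (N : ℤ) ∣ i → ∃ j, h i w * h 0 w = h j w)
    (hθmul : ∀ i j : ℤ, θ (h i w * h j w) = θ (h i w) * θ (h j w))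
    (hθ : ∀ i : ℤ, θ (h i w) = h (m - 2 * i) w) : N = 3 := by
  have hcop : ∀ x : ℤ, (N : ℤ) ∣ 2 * x → (N : ℤ) ∣ x := fun x hx =>
    Int.dvd_of_dvd_mul_right_of_gcd_one hx (by
      rw [Int.gcd_comm]
      exact Nat.coprime_two_left.2 hN)
  have key : ∀ i : ℤ, ¬ (N : ℤ) ∣ i → h i w * h 0 w = h (2 * i) w := by
    intro i hi
    obtain ⟨j, hj⟩ := htrans i hi
    have h1 : h (m - 2 * j) w = h (m - 2 * i) w * h m w := by
      rw [← hθ, ← hj, hθmul, hθ, hθ]; simp
    have h2 : h 0 w = h (2 * j - 2 * i) w * h (2 * j) w := by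
      have e := congrArg (h (2 * j - m)) h1
      rw [hmul, hadd, hadd, hadd] at e
      ring_nf at e ⊢
      exact e
    have d1 : h (2 * j) w = h (i + j) w * h j w := by
      have e := congrArg (h j) hj
      simp only [hmul, hadd] at e
      ring_nf at e ⊢
      exact e.symm
    have d2 : h (i + j) w = h (2 * i) w * h i w := by
      have e := congrArg (h i) hj
      simp only [hmul, hadd] at e
      ring_nf at e ⊢
      exact e.symm
    have d3 : h (2 * j) w = h (2 * i) w * h 0 w := by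
      rw [d1, d2, ← hj]
      calc h (2 * i) w * h i w * (h i w * h 0 w)
            = h (2 * i) w * ((h i w * h i w) * h 0 w) := by simp only [mul_assoc]
        _ = h (2 * i) w * h 0 w := by rw [hexp, one_mul]
    have h3 : h (2 * j - 2 * i) w = h (2 * i) w := by
      calc h (2 * j - 2 * i) w = h 0 w * h (2 * j) w := by
            rw [h2, mul_assoc, hexp, mul_one]
        _ = h (2 * i) w := by rw [d3, mul_left_comm, hexp, mul_one]
    have h4 : (N : ℤ) ∣ j - 2 * i := hcop _ (by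
      have := (heq _ _).1 h3
      rwa [show 2 * j - 2 * i - 2 * i = 2 * (j - 2 * i) by ring] at this)
    rw [hj]
    exact (heq _ _).2 h4
  have hN2 : ¬ (N : ℤ) ∣ 1 := fun hd => by
    have := Int.le_of_dvd one_pos hd
    omega
  have k1 := key 1 hN2
  have k2 := key 2 (fun hd => hN2 (hcop 1 (by simpa using hd)))
  have h41 : h 4 w = h 1 w := by
    calc h 4 w = h 2 w * h 0 w := by rw [k2]; norm_num
      _ = (h 1 w * h 0 w) * h 0 w := by rw [k1]; norm_num
      _ = h 1 w := by rw [mul_assoc, hexp, mul_one]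
  have h3 : (N : ℤ) ∣ 3 := by simpa using (heq _ _).1 h41
  rcases (Nat.dvd_prime Nat.prime_three).1 (by exact_mod_cast h3) with h | h
  · omega
  · exact h

end Cfsg.Agent.CITPair
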