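import Cfsg.Agent.CITPair.Four

/-!
# A configuration with more than two fixed involution classes has `q = 4`
-/

set_option autoImplicit false

namespace Cfsg.Agent.CITPair

open Subgroup

universe u

variable {G : Type u} [Group G] [Finite G]

namespace Config

variable {T V V' : Subgroup G} {q : ℕ} (C : Config T V V' q)
include C

theorem mem_fix_iff (v : VV V) :
    v ∈ fixOf (VV V) ((V'.subgroupOf (normalizer (V : Set G))).map (img C.par.loc)) ↔
      (v : G) ∈ V' := by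
  refine ⟨fun h => ?_, fun h y hy => ?_⟩
  · refine (C.central_iff_mem_inf (VV_le V v.2)).1 (mem_centralizer_iff.2 fun t ht => ?_)
    obtain ⟨x, hx, x', hx', rfl⟩ := C.prod ht
    have e := congrArg Subtype.val (h _ (C.par.loc.mem_map_img.2
      ⟨⟨x', C.offIn.le hx'⟩, hx', rfl⟩))
    rw [img_smul] at e
    exact ((C.comm hx (VV_le V v.2)).mul_left (mul_inv_eq_iff_eq_mul.1 e)).eq
  · obtain ⟨x', hx', rfl⟩ := C.par.loc.mem_map_img.1 hy
    refine Subtype.ext ?_
    rw [img_smul]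
    exact mul_inv_eq_iff_eq_mul.2 (C.comm' hx' h).eq

theorem q_eq_four (hC : CIT G) (h3 : 3 ≤ q) : q = 4 := by
  classical
  have H := C.par.loc.fpfAct hC
  have O := C.par.loc.offender hC C.offIn
  have H' := C.par'.loc.fpfAct hC
  have O' := C.par'.loc.offender hC C.symm.offIn
  set L := C.par.loc with hL
  set L' := C.par'.loc with hL'
  set B := (V'.subgroupOf (normalizer (V : Set G))).map (img L) with hB
  have hBq : Nat.card B = q := C.card_img_offender hC
  have hBq' : Nat.card ((V.subgroupOf (normalizer (V' : Set G))).map (img L')) = q :=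
    C.symm.card_img_offender hC
  obtain ⟨h, n, a₁, D⟩ := O.exists_torus H (by omega)
  obtain ⟨h', n', a₁', D'⟩ := O'.exists_torus H' (by omega)
  obtain ⟨Hg, hHg⟩ := img_surjective L h
  obtain ⟨Nn, hNn⟩ := img_surjective L' n'
  have hHV' : (Hg : G) ∈ normalizer (V' : Set G) := C.mem_normalizer_of_img hC (hHg ▸ D.hN)
  set Hg' : normalizer (V' : Set G) := ⟨Hg, hHV'⟩ with hHg'
  obtain ⟨w, hw, hw1⟩ := O.exists_mem_fix H
  have hN : ((q - 1 : ℕ) : ℤ) = (orderOf h : ℤ) := by rw [D.ord, hBq]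
  have hodd : Odd (orderOf h) := by
    rw [D.ord]
    have := O.two_le_card H
    obtain ⟨j, hj⟩ := O.even_card
    exact ⟨j - 1, by omega⟩
  have hWz : ∀ (i : ℤ) {u : VV V}, u ∈ fixOf (VV V) B → h ^ i • u ∈ fixOf (VV V) B :=
    fun i _ hu => O.smul_mem_fix H (zpow_mem D.hN i) hu
  -- the element of `B` attached to a fixed point
  have hconj : ∀ u : VV V, (u : G) ∈ V' → (Nn : G) * u * (Nn : G)⁻¹ ∈ V' := fun u hu =>
    (mem_normalizer_iff.1 Nn.2 u).1 hu
  let a : ∀ u : VV V, (u : G) ∈ V' → Img L := fun u hu =>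
    img L ⟨(Nn : G) * u * (Nn : G)⁻¹, C.offIn.le (hconj u hu)⟩
  have haB : ∀ u hu, a u hu ∈ B := fun u hu => L.mem_map_img.2 ⟨_, hconj u hu, rfl⟩
  let φ : Img L → VV V := fun b => (n • w) * b • (n • w)
  let θ : VV V → VV V := fun u => if hu : (u : G) ∈ V' then φ (a u hu) else 1
  have hθ : ∀ u (hu : u ∈ fixOf (VV V) B), θ u = φ (a u ((C.mem_fix_iff u).1 hu)) :=
    fun u hu => dif_pos ((C.mem_fix_iff u).1 hu)
  have hφmul : ∀ b ∈ B, ∀ c ∈ B, φ (b * c) = φ b * φ c := fun b hb c hc => by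
    show (n • w) * (b * c) • (n • w) = ((n • w) * b • (n • w)) * ((n • w) * c • (n • w))
    have hbc : b • ((n • w) * c • (n • w)) = (n • w) * c • (n • w) := O.quad c hc (n • w) b hb
    rw [smul_mul'] at hbc
    rw [← hbc, mul_smul b c]
    simp only [mul_assoc]
    rw [← mul_assoc (b • n • w) (b • n • w), H.exp, one_mul]
  have hamul : ∀ (u v : VV V) (hu : (u : G) ∈ V') (hv : (v : G) ∈ V'),
      a (u * v) (mul_mem hu hv) = a u hu * a v hv := fun u v hu hv => by
    show img L _ = img L _ * img L _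
    rw [← map_mul]
    congr 1
    apply Subtype.ext
    simp only [coe_mul]
    group
  have key : ∀ (i : ℤ) (u : VV V) (hu : (u : G) ∈ V') (hiu : ((h ^ i • u : VV V) : G) ∈ V'),
      a (h ^ i • u) hiu = h ^ (-i) * a u hu * (h ^ (-i))⁻¹ := by
    intro i u hu hiu
    set uu : VV V' := ⟨u, C.eqV'.le hu⟩ with huu
    have hy : (img L' (Hg' ^ i))⁻¹ ∈ normalizer
        ((V.subgroupOf (normalizer (V' : Set G))).map (img L') : Set (Img L')) :=
      inv_mem (C.symm.img_mem_normalizer (by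
        rw [coe_zpow, hHg']
        exact zpow_mem Hg.2 i))
    have huW : uu ∈ fixOf (VV V') ((V.subgroupOf (normalizer (V' : Set G))).map (img L')) :=
      (C.symm.mem_fix_iff uu).2 (VV_le V u.2)
    have hinv := (C.symm.mem_fix_iff _).1 (D'.inverse H' O' hy huW)
    rw [inv_inv, ← map_inv, ← hNn] at hinv
    simp only [coe_mul, img_smul, coe_inv, huu, coe_zpow, hHg'] at hinv
    set x : normalizer (V : Set G) := ⟨(Nn : G) * u * (Nn : G)⁻¹, C.offIn.le (hconj u hu)⟩
    set x' : normalizer (V : Set G) :=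
      ⟨(Nn : G) * ((h ^ i • u : VV V) : G) * (Nn : G)⁻¹, C.offIn.le (hconj _ hiu)⟩
    have hval : ((h ^ i • u : VV V) : G) = (Hg : G) ^ i * u * ((Hg : G) ^ i)⁻¹ := by
      rw [← hHg, ← map_zpow, img_smul, coe_zpow]
    have hker : img L ((Hg ^ i)⁻¹ * x * Hg ^ i * x') = 1 := (L.ker_img hC _).2 (by
      simp only [coe_mul, coe_inv, coe_zpow, x, x']
      rw [hval]
      convert hinv using 1
      group)
    rw [map_mul, map_mul, map_mul, map_inv, map_zpow, hHg] at hker
    show img L x' = h ^ (-i) * img L x * (h ^ (-i))⁻¹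
    rw [mul_eq_one_iff_inv_eq] at hker
    rw [← hker, inv_eq_self ?_, zpow_neg, inv_inv]
    have e := O.ea _ ((mem_normalizer_iff''.1 (zpow_mem D.hN i) _).1 (haB u hu))
    exact e
  have hequiv : ∀ (i : ℤ) (b : Img L), b ∈ B →
      φ (h ^ i * b * (h ^ i)⁻¹) = h ^ (2 * i) • φ b := by
    intro i b hb
    obtain ⟨k, hk⟩ : ∃ k : ℕ, h ^ k = h ^ i :=
      (IsOfFinOrder.mem_powers_iff_mem_zpowers (isOfFinOrder_of_finite h)).2 (zpow_mem_zpowers h i)
    show (n • w) * (h ^ i * b * (h ^ i)⁻¹) • (n • w) = h ^ (2 * i) • ((n • w) * b • (n • w))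
    rw [← hk, D.square H O hw hw1 hb k]
    congr 1
    rw [pow_mul', zpow_mul', ← hk]
    simp
  have hθh : ∀ i : ℤ, θ (h ^ i • w) = h ^ (-2 * i) • θ w := by
    intro i
    rw [hθ _ (hWz i hw), hθ _ hw, key i w ((C.mem_fix_iff w).1 hw) ((C.mem_fix_iff _).1 (hWz i hw)),
      hequiv _ _ (haB w ((C.mem_fix_iff w).1 hw))]
    rw [mul_neg, neg_mul]
  have haw : a w ((C.mem_fix_iff w).1 hw) ≠ 1 := fun e => by
    have h1 : (Nn : G) * w * (Nn : G)⁻¹ ∈ V := (L.ker_img hC _).1 e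
    set ww : VV V' := ⟨w, C.eqV'.le ((C.mem_fix_iff w).1 hw)⟩
    have hww : ww ∈ fixOf (VV V') ((V.subgroupOf (normalizer (V' : Set G))).map (img L')) :=
      (C.symm.mem_fix_iff ww).2 (VV_le V w.2)
    have := D'.smul_n_mem H' O' hww ((C.symm.mem_fix_iff _).2 (by
      rw [← hNn, img_smul]
      exact h1))
    exact hw1 (Subtype.ext (congrArg Subtype.val this : _))
  have hθw : θ w ≠ 1 := by
    rw [hθ _ hw]
    intro e
    have e' : (n • w) * a w ((C.mem_fix_iff w).1 hw) • (n • w) = 1 := e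
    have := (O.fixed_iff H (haB w ((C.mem_fix_iff w).1 hw)) haw).1 (H.mul_eq_one.1 e').symm
    exact hw1 (D.smul_n_mem H O hw this)
  have hθW : θ w ∈ fixOf (VV V) B := by
    rw [hθ _ hw]
    exact O.quad _ (haB w ((C.mem_fix_iff w).1 hw)) (n • w)
  obtain ⟨m, hm⟩ := D.transitive H O hw hw1 hθW hθw
  have hstab : ∀ i : ℤ, h ^ i • w = w ↔ ((q - 1 : ℕ) : ℤ) ∣ i := by
    intro i
    rw [hN, orderOf_dvd_iff_zpow_eq_one]
    refine ⟨fun e => by_contra fun hne => hw1 (H.fpf _ hne ?_ w e), fun e => by rw [e, one_smul]⟩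
    exact hodd.of_dvd_nat (orderOf_dvd_of_mem_zpowers (zpow_mem_zpowers h i))
  have h31 := eq_four_of_algebra (V := VV V) (h := fun i u => h ^ i • u) w θ (m : ℤ) (q - 1)
    (by rw [show q - 1 = orderOf h by rw [D.ord, hBq]]; exact hodd) (by omega)
    (fun i u v => smul_mul' _ u v) (fun i j u => by simp only [smul_smul, zpow_add]) H.exp ?_ ?_ ?_ ?_
  · omega
  · intro i j
    show h ^ i • w = h ^ j • w ↔ _
    rw [← hstab, sub_eq_add_neg, add_comm, zpow_add, mul_smul, zpow_neg, inv_smul_eq_iff]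
  · intro i hi
    show ∃ j : ℤ, h ^ i • w * h ^ (0 : ℤ) • w = h ^ j • w
    rw [zpow_zero, one_smul]
    have h1 : h ^ i • w * w ≠ 1 := fun e => hi ((hstab i).1 (H.mul_eq_one.1 e))
    obtain ⟨j, hj⟩ := D.transitive H O hw hw1 (mul_mem (hWz i hw) hw) h1
    exact ⟨(j : ℤ), by rw [zpow_natCast, hj]⟩
  · intro i j
    show θ (h ^ i • w * h ^ j • w) = θ (h ^ i • w) * θ (h ^ j • w)
    have hi := hWz i hw
    have hj := hWz j hw
    rw [hθ _ (mul_mem hi hj), hθ _ hi, hθ _ hj, hamul _ _ ((C.mem_fix_iff _).1 hi)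
      ((C.mem_fix_iff _).1 hj),
      hφmul _ (haB _ ((C.mem_fix_iff _).1 hi)) _ (haB _ ((C.mem_fix_iff _).1 hj))]
  · intro i
    show θ (h ^ i • w) = h ^ ((m : ℤ) - 2 * i) • w
    rw [hθh, ← hm, smul_smul, sub_eq_add_neg, add_comm, zpow_add, zpow_natCast, neg_mul]

end Config

end Cfsg.Agent.CITPair
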