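import Cfsg.Agent.CITPair.OffenderThree

/-!
# Maximal normal 2-subgroups of 2-local subgroups of a CIT group
-/

set_option autoImplicit false

namespace Cfsg.Agent.CITPair

open Subgroup

universe u

variable {G : Type u} [Group G]

/-- `Q` is the nontrivial largest normal `2`-subgroup of `N`. -/
structure Loc (N Q : Subgroup G) : Prop where
  ne : Q ≠ ⊥
  two : IsPGroup 2 Q
  le : Q ≤ N
  norm : N ≤ normalizer (Q : Set G)
  max : ∀ M : Subgroup G, M ≤ N → IsPGroup 2 M → N ≤ normalizer (M : Set G) → M ≤ Q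

/-- `Ω₁(Z(Q))`, as a set of elements. -/
def VV (Q : Subgroup G) : Subgroup G where
  carrier := {x | x ∈ Q ∧ x * x = 1 ∧ ∀ r ∈ Q, Commute r x}
  one_mem' := ⟨one_mem _, one_mul 1, fun r _ => Commute.one_right r⟩
  mul_mem' := fun {x y} hx hy => ⟨mul_mem hx.1 hy.1, by
      rw [(hx.2.2 y hy.1).mul_mul_mul_comm, hx.2.1, hy.2.1, one_mul],
    fun r hr => (hx.2.2 r hr).mul_right (hy.2.2 r hr)⟩
  inv_mem' := fun {x} hx => by rw [inv_eq_self hx.2.1]; exact hx

theorem mem_VV {Q : Subgroup G} {x : G} :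
    x ∈ VV Q ↔ x ∈ Q ∧ x * x = 1 ∧ ∀ r ∈ Q, Commute r x := Iff.rfl

instance (Q : Subgroup G) : CommGroup (VV Q) :=
  { (inferInstance : Group (VV Q)) with
    mul_comm := fun a b => Subtype.ext (b.2.2.2 a a.2.1).eq }

theorem VV_le (Q : Subgroup G) : VV Q ≤ Q := fun _ h => h.1

theorem VV_comm {Q : Subgroup G} {x y : G} (hx : x ∈ VV Q) (hy : y ∈ VV Q) : Commute x y :=
  hy.2.2 x hx.1

theorem conj_mem_VV {Q : Subgroup G} {g x : G} (hg : g ∈ normalizer (Q : Set G)) (hx : x ∈ VV Q) :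
    g * x * g⁻¹ ∈ VV Q := by
  refine ⟨(mem_normalizer_iff.1 hg x).1 hx.1, ?_, fun r hr => ?_⟩
  · calc g * x * g⁻¹ * (g * x * g⁻¹) = g * (x * x) * g⁻¹ := by group
      _ = 1 := by rw [hx.2.1]; group
  · have h := hx.2.2 _ ((mem_normalizer_iff''.1 hg r).1 hr)
    have := (Commute.conj_iff g).2 h
    simpa [mul_assoc] using this

theorem normalizer_le_normalizer_VV (Q : Subgroup G) :
    normalizer (Q : Set G) ≤ normalizer (VV Q : Set G) := fun g hg => by
  refine mem_normalizer_iff.2 fun x => ⟨conj_mem_VV hg, fun h => ?_⟩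
  have := conj_mem_VV (inv_mem hg) h
  simpa [mul_assoc] using this

theorem VV_ne_bot [Finite G] {Q : Subgroup G} (h2 : IsPGroup 2 Q) (hne : Q ≠ ⊥) : VV Q ≠ ⊥ := by
  haveI : Fact (Nat.Prime 2) := ⟨Nat.prime_two⟩
  haveI : Nontrivial Q := (Q.nontrivial_iff_ne_bot).2 hne
  haveI := h2.center_nontrivial
  obtain ⟨⟨z, hz⟩, hz1⟩ := exists_ne (1 : center Q)
  have hz1' : (z : G) ≠ 1 := fun e => hz1 (Subtype.ext (Subtype.ext e))
  obtain ⟨n, hn⟩ := exists_pow_orderOf_two h2 z.2 hz1'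
  refine fun e => ?_
  have hm : (z : G) ^ n ∈ VV Q := ⟨pow_mem z.2 n, mul_self_of_orderOf hn, fun r hr =>
    (show Commute r (z : G) from congrArg Subtype.val (mem_center_iff.1 hz ⟨r, hr⟩)).pow_right n⟩
  rw [e, mem_bot] at hm
  rw [hm, orderOf_one] at hn
  omega

namespace Loc

variable {N Q : Subgroup G} (L : Loc N Q)
include L

theorem le_normalizer_VV : N ≤ normalizer (VV Q : Set G) :=
  L.norm.trans (normalizer_le_normalizer_VV Q)

variable [Finite G] (hC : CIT G)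
include hC

theorem mem_of_centralizes {g : G} (hg : g ∈ N) (h : ∀ v ∈ VV Q, Commute g v) : g ∈ Q := by
  refine L.max (N ⊓ centralizer (VV Q : Set G)) inf_le_left ?_ ?_
    ⟨hg, mem_centralizer_iff.2 fun v hv => (h v hv).eq.symm⟩
  · exact (isPGroup_centralizer hC (L.two.to_le (VV_le Q))
      (VV_ne_bot L.two L.ne)).to_le inf_le_right
  · intro n hn
    refine mem_normalizer_iff.2 fun x => ?_
    have key : ∀ m ∈ N, ∀ y, y ∈ N ⊓ centralizer (VV Q : Set G) →
        m * y * m⁻¹ ∈ N ⊓ centralizer (VV Q : Set G) := fun m hm y hy =>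
      ⟨mul_mem (mul_mem hm hy.1) (N.inv_mem hm), mem_centralizer_iff.2 fun v hv => by
        have hv' : m⁻¹ * v * m ∈ VV Q :=
          (mem_normalizer_iff''.1 (L.le_normalizer_VV hm) v).1 hv
        have h2 := mem_centralizer_iff.1 hy.2 _ hv'
        calc v * (m * y * m⁻¹) = m * ((m⁻¹ * v * m) * y) * m⁻¹ := by group
          _ = m * (y * (m⁻¹ * v * m)) * m⁻¹ := by rw [h2]
          _ = m * y * m⁻¹ * v := by group⟩
    refine ⟨key n hn x, fun hx => ?_⟩
    have := key n⁻¹ (inv_mem hn) _ hx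
    simpa [mul_assoc] using this

/-- An involution of `N` centralising `Q` lies in `Ω₁(Z(Q))`. -/
theorem mem_VV_of_commute {z : G} (hz : z ∈ N) (hz2 : z * z = 1) (h : ∀ r ∈ Q, Commute r z) :
    z ∈ VV Q :=
  ⟨L.mem_of_centralizes hC hz fun v hv => (h v hv.1).symm, hz2, h⟩

end Loc

end Cfsg.Agent.CITPair
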