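import Cfsg.Agent.CITPair.Reduce
import Cfsg.Agent.CITPairFour.Main

/-!
# Classification of the simple groups with 2-group involution centralisers
-/

set_option autoImplicit false

namespace Cfsg.Agent.CITPair

open Subgroup

universe u

/-- A simple CIT group is `PSL(2, q)`, `PSL(3, 4)` or a Suzuki group. -/
theorem classification {G : Type u} [Group G] [Finite G] [IsSimpleGroup G]
    (hna : ∃ a b : G, a * b ≠ b * a)
    (hCIT : ∀ t : G, orderOf t = 2 → IsPGroup 2 (centralizer ({t} : Set G))) :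
    (∃ (F : Type) (_ : Field F) (_ : Fintype F),
        (Fintype.card F = 9 ∨ (∃ n : ℕ, Fintype.card F = 2 ^ n) ∨
          ((Fintype.card F).Prime ∧ ∃ k : ℕ, Fintype.card F = 2 ^ k + 1 ∨ Fintype.card F + 1 = 2 ^ k)) ∧
        Nonempty (G ≃* Matrix.ProjectiveSpecialLinearGroup (Fin 2) F)) ∨
    (∃ (F : Type) (_ : Field F) (_ : Fintype F), Fintype.card F = 4 ∧
        Nonempty (G ≃* Matrix.ProjectiveSpecialLinearGroup (Fin 3) F)) ∨
    Cfsg.Lie.IsoSuzuki G :=
  classification_of hna hCIT fun _ _ _ C => CITPairFour.psl34 hCIT C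

end Cfsg.Agent.CITPair
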