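import Cfsg.Agent.CITPair.Par
import Cfsg.Agent.Thompson.Replacement

/-!
# An elementary abelian subgroup of largest order outside `Q` yields an offender
-/

set_option autoImplicit false

namespace Cfsg.Agent.CITPair

open Subgroup
open scoped commutatorElement

universe u

variable {G : Type u} [Group G]

/-- `A` is an elementary abelian subgroup of largest order in `T`. -/
structure MaxEA (T A : Subgroup G) : Prop where
  le : A ≤ T
  ea : Cfsg.IsElementaryAbelian 2 A
  max : ∀ B : Subgroup G, B ≤ T → Cfsg.IsElementaryAbelian 2 B → Nat.card B ≤ Nat.card A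

theorem ea_VV (Q : Subgroup G) : Cfsg.IsElementaryAbelian 2 (VV Q) :=
  Thompson.ea_iff.2 ⟨fun _ hx => mem_centralizer_iff.2 fun _ hy => (VV_comm hy hx).eq,
    fun x hx => by rw [pow_two, hx.2.1]⟩

theorem MaxEA.conj {T A : Subgroup G} (h : MaxEA T A) (g : G) : MaxEA (cj g T) (cj g A) := by
  refine ⟨cj_le_cj h.le, Thompson.ea_map h.ea _, fun B hB hBe => ?_⟩
  rw [card_cj, ← card_cj g⁻¹ B]
  refine h.max _ ?_ (Thompson.ea_map hBe _)
  have := cj_le_cj (g := g⁻¹) hB
  rwa [← cj_mul, inv_mul_cancel, cj_one] at this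

theorem exists_maxEA [Finite G] (T : Subgroup G) : ∃ A, MaxEA T A := by
  obtain ⟨A, hA, hmax⟩ := Set.exists_max_image
    {B : Subgroup G | B ≤ T ∧ Cfsg.IsElementaryAbelian 2 B} (fun B => Nat.card B) (Set.toFinite _)
    ⟨⊥, bot_le, Thompson.ea_bot⟩
  exact ⟨A, hA.1, hA.2, fun B h1 h2 => hmax B ⟨h1, h2⟩⟩

theorem offIn_of_maxEA [Finite G] {N Q T A : Subgroup G} (L : Loc N Q) (hT : T ≤ N)
    (hT2 : IsPGroup 2 T) (hQT : Q ≤ T) (hA : MaxEA T A) (hAQ : ¬ A ≤ Q) :
    ∃ B, B ≤ A ∧ OffIn N Q B := by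
  haveI : Fact (Nat.Prime 2) := ⟨Nat.prime_two⟩
  have hVT : VV Q ≤ T := (VV_le Q).trans hQT
  haveI hVn : ((VV Q).subgroupOf T).Normal :=
    normal_subgroupOf_of_le_normalizer (hT.trans L.le_normalizer_VV)
  have hVe : Cfsg.IsElementaryAbelian 2 ((VV Q).subgroupOf T) :=
    (Thompson.ea_map_iff T.subtype_injective).1 (by
      rw [subgroupOf_map_subtype, inf_of_le_left hVT]; exact ea_VV Q)
  have hA' := (Thompson.maxEA_subgroup_iff hA.le).2 ⟨hA.ea, hA.max⟩
  set V' := (VV Q).subgroupOf T with hV'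
  set A' := A.subgroupOf T with hA'def
  set U : Subgroup T := ⁅V', A'⁆ with hU
  obtain ⟨hatt, hfix⟩ := Thompson.attains_centralizer_commutator V' hVe hA'
  rw [← hU] at hatt hfix
  set B' : Subgroup T := A' ⊓ centralizer (U : Set T) with hB'
  set B := B'.map T.subtype with hB
  have hBA : B ≤ A := by
    rintro _ ⟨b, hb, rfl⟩
    exact hb.1
  have hBT : B ≤ T := hBA.trans hA.le
  have hfixcard : Nat.card (V' ⊓ centralizer (B' : Set T) : Subgroup T) =
      Nat.card (VV Q ⊓ centralizer (B : Set G) : Subgroup G) := by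
    refine Nat.card_congr
      { toFun := fun v => ⟨((v : T) : G), v.2.1, mem_centralizer_iff.2 ?_⟩
        invFun := fun v => ⟨⟨v, hVT v.2.1⟩, v.2.1, mem_centralizer_iff.2 fun b hb =>
          Subtype.ext (mem_centralizer_iff.1 v.2.2 b ⟨b, hb, rfl⟩)⟩
        left_inv := fun v => rfl
        right_inv := fun v => rfl }
    rintro _ ⟨b, hb, rfl⟩
    exact congrArg Subtype.val (mem_centralizer_iff.1 v.2.2 b hb)
  have hcardB : Nat.card B = Nat.card B' := card_map_of_injective T.subtype_injective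
  refine ⟨B, hBA, hBT.trans hT, fun b hb => ?_, fun hBQ => hAQ ?_, ?_, ?_⟩
  · rw [← pow_two]
    exact (Thompson.ea_iff.1 hA.ea).2 b (hBA hb)
  · have hV : V' ≤ U ⊔ (A' ⊓ V') := by
      rw [← hfix]
      refine fun v hv => ⟨hv, mem_centralizer_iff.2 fun b hb => Subtype.ext ?_⟩
      exact (mem_subgroupOf.1 hv).2.2 _ (hBQ ⟨b, hb, rfl⟩) |>.eq
    haveI : Group.IsNilpotent T := hT2.isNilpotent
    have hn : ∀ n, U ≤ (⊤ : Subgroup T).lowerCentralSeries n := by
      intro n
      induction n with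
      | zero => exact le_top
      | succ n ih =>
        set L' := (⊤ : Subgroup T).lowerCentralSeries (n + 1) with hL'
        have hS : V' ≤ (centralizer ((A'.map (QuotientGroup.mk' L')) : Set (T ⧸ L'))).comap
            (QuotientGroup.mk' L') := by
          refine hV.trans (sup_le (fun u hu => ?_) fun u hu => ?_)
          · refine mem_centralizer_iff.2 ?_
            rintro _ ⟨a, -, rfl⟩
            refine (commutatorElement_eq_one_iff_mul_comm.1 ?_).symm
            rw [← map_commutatorElement, QuotientGroup.mk'_apply, QuotientGroup.eq_one_iff, hL',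
              Subgroup.lowerCentralSeries_succ]
            exact commutator_mem_commutator (ih hu) (mem_top a)
          · refine mem_centralizer_iff.2 ?_
            rintro _ ⟨a, ha, rfl⟩
            rw [← map_mul, ← map_mul,
              (mem_centralizer_iff.1 ((Thompson.ea_iff.1 hA'.1).1 hu.1) a ha)]
        refine commutator_le.2 fun v hv a ha => ?_
        rw [← QuotientGroup.eq_one_iff (N := L'), ← QuotientGroup.mk'_apply, map_commutatorElement,
          commutatorElement_eq_one_iff_mul_comm]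
        exact (mem_centralizer_iff.1 (hS hv) _ ⟨a, ha, rfl⟩).symm
    have hU0 : U = ⊥ := le_bot_iff.1 ((hn _).trans Subgroup.lowerCentralSeries_nilpotencyClass.le)
    intro a ha
    refine hBQ ⟨⟨a, hA.le ha⟩, ⟨ha, ?_⟩, rfl⟩
    rw [hU0]
    exact mem_centralizer_iff.2 fun x hx => by rw [mem_bot.1 hx, one_mul, mul_one]
  · rintro b ⟨b', hb', rfl⟩ c ⟨c', hc', rfl⟩ v hv
    have hm : ⁅(⟨v, hVT hv⟩ : T), b'⁆ ∈ U := commutator_mem_commutator hv hb'.1
    have hc := congrArg Subtype.val (mem_centralizer_iff.1 hc'.2 _ hm)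
    have e : ((⁅(⟨v, hVT hv⟩ : T), b'⁆ : T) : G) = v * ((b' : G) * v * (b' : G)⁻¹) := by
      rw [commutatorElement_def]
      push_cast
      rw [inv_eq_self hv.2.1]
      group
    rw [coe_mul, coe_mul, e] at hc
    exact hc.symm
  · set C := B ⊓ Q
    have hC : C ≤ centralizer (VV Q : Set G) := fun x hx => mem_centralizer_iff.2 fun v hv =>
      (hv.2.2 x hx.2).eq.symm
    have hCe : Cfsg.IsElementaryAbelian 2 C := Thompson.ea_mono hA.ea (inf_le_left.trans hBA)
    have h1 := hA.max (C ⊔ VV Q) (sup_le (inf_le_left.trans hBT) hVT)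
      (Thompson.ea_sup hCe (ea_VV Q) hC)
    have h2 := Thompson.card_sup_mul_card_inf_of_comm hC
    have h3 : Nat.card (C ⊓ VV Q : Subgroup G) ≤ Nat.card (A' ⊓ V' : Subgroup T) := by
      rw [← card_map_of_injective (K := A' ⊓ V') T.subtype_injective]
      refine card_le_of_le fun x hx => ⟨⟨x, hVT hx.2⟩, ⟨hBA hx.1.1, hx.2⟩, rfl⟩
    calc Nat.card (VV Q) * Nat.card C = Nat.card (C ⊔ VV Q : Subgroup G) *
          Nat.card (C ⊓ VV Q : Subgroup G) := by rw [h2, mul_comm]
      _ ≤ Nat.card A * Nat.card (A' ⊓ V' : Subgroup T) := Nat.mul_le_mul h1 h3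
      _ = Nat.card A' * Nat.card (A' ⊓ V' : Subgroup T) := by
          rw [hA'def, Nat.card_congr (subgroupOfEquivOfLe hA.le).toEquiv]
      _ = Nat.card B * Nat.card (VV Q ⊓ centralizer (B : Set G) : Subgroup G) := by
          rw [hcardB, ← hfixcard]; exact hatt.2.2.symm

theorem exists_par [Finite G] (hC : CIT G) {N Q T A : Subgroup G} (L : Loc N Q) (hT : T ≤ N)
    (hT2 : IsPGroup 2 T) (hsyl : ∀ P : Subgroup G, P ≤ N → IsPGroup 2 P → T ≤ P → P = T)
    (hA : MaxEA T A) (hAQ : ¬ A ≤ Q) : ∃ q, Par N Q T q := by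
  have hQT : Q ≤ T := by
    have h := hsyl (T ⊔ Q) (sup_le hT L.le) (hT2.to_sup_of_normal_right' L.two (hT.trans L.norm))
      le_sup_left
    exact h ▸ le_sup_right
  obtain ⟨B, hBA, hB⟩ := offIn_of_maxEA L hT hT2 hQT hA hAQ
  obtain ⟨q, hq, -⟩ := par_of_offIn hC L hT hT2 hsyl (hBA.trans hA.le) hB
  exact ⟨q, hq⟩

end Cfsg.Agent.CITPair
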