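import Cfsg.Agent.CITPair.Basic
import Cfsg.Agent.Invol.BaerSuzuki

/-!
# Quadratic offenders on a module on which all elements of odd order act fixed-point-freely

`X` acts faithfully on the elementary abelian `2`-group `V`, nontrivial elements of odd order fix
only `1`, and `X` has no nontrivial normal `2`-subgroup.  An elementary `2`-subgroup `B` acting
quadratically with `|V| ≤ |B| |C_V(B)|` is then a Sylow `2`-subgroup, is the centraliser of each of
its involutions, and its fixed-point groups form a partition of `V`.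
-/

set_option autoImplicit false

namespace Cfsg.Agent.CITPair

open Subgroup

variable {X : Type*} [Group X] {V : Type*} [CommGroup V] [MulDistribMulAction X V]

/-- The standing hypotheses on the action. -/
structure FPFAct (X V : Type*) [Group X] [CommGroup V] [MulDistribMulAction X V] : Prop where
  faith : ∀ x : X, (∀ v : V, x • v = v) → x = 1
  exp : ∀ v : V, v * v = 1
  fpf : ∀ x : X, x ≠ 1 → Odd (orderOf x) → ∀ v : V, x • v = v → v = 1
  cit : ∀ a : X, orderOf a = 2 → ∀ x : X, Commute x a → Odd (orderOf x) → x = 1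
  core : ∀ N : Subgroup X, N.Normal → IsPGroup 2 N → N = ⊥

variable (V) in
/-- The fixed points of a subgroup. -/
def fixOf (B : Subgroup X) : Subgroup V where
  carrier := {v | ∀ b ∈ B, b • v = v}
  one_mem' := fun b _ => smul_one b
  mul_mem' := fun hv hw b hb => by rw [smul_mul', hv b hb, hw b hb]
  inv_mem' := fun hv b hb => by rw [smul_inv', hv b hb]

theorem mem_fixOf {B : Subgroup X} {v : V} : v ∈ fixOf V B ↔ ∀ b ∈ B, b • v = v := Iff.rfl

variable (V) in
/-- The commutator map of a single element. -/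
def delta (b : X) : V →* V where
  toFun v := v * b • v
  map_one' := by simp [smul_one]
  map_mul' v w := by rw [smul_mul']; exact mul_mul_mul_comm _ _ _ _

theorem delta_apply (b : X) (v : V) : delta V b v = v * b • v := rfl

/-- The offender hypotheses. -/
structure Offender (V : Type*) [CommGroup V] [MulDistribMulAction X V] (B : Subgroup X) : Prop where
  ne : B ≠ ⊥
  ea : ∀ b ∈ B, b * b = 1
  quad : ∀ b ∈ B, ∀ v : V, v * b • v ∈ fixOf V B
  big : Nat.card V ≤ Nat.card B * Nat.card (fixOf V B)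

namespace FPFAct

variable (H : FPFAct X V) [Finite X] [Finite V]
include H

omit [Finite X] [Finite V] in
theorem mul_eq_one {v w : V} : v * w = 1 ↔ v = w := by
  refine ⟨fun h => ?_, fun h => h ▸ H.exp v⟩
  calc v = v * (w * w) := by rw [H.exp, mul_one]
    _ = w := by rw [← mul_assoc, h, one_mul]

omit [Finite X] [Finite V] in
theorem delta_eq_one {b : X} {v : V} : delta V b v = 1 ↔ b • v = v := by
  rw [delta_apply, H.mul_eq_one, eq_comm]

omit [Finite V] in
/-- The stabiliser of a nontrivial vector is a `2`-group. -/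
theorem isPGroup_stabilizer {v : V} (hv : v ≠ 1) : IsPGroup 2 (MulAction.stabilizer X v) :=
  isPGroup_of_no_odd fun x hx ho => by
    by_contra hx1
    exact hv (H.fpf x hx1 ho v hx)

omit [Finite V] in
theorem isPGroup_centralizer {a : X} (ha : orderOf a = 2) :
    IsPGroup 2 (centralizer ({a} : Set X)) :=
  isPGroup_of_no_odd fun x hx ho => H.cit a ha x (mem_centralizer_singleton_iff.1 hx) ho

/-- For an involution the fixed-point group and the commutator group coincide. -/
theorem invol {a : X} (ha : orderOf a = 2) :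
    (delta V a).range = (delta V a).ker ∧
      Nat.card (delta V a).ker * Nat.card (delta V a).ker = Nat.card V := by
  haveI : Fact (Nat.Prime 2) := ⟨Nat.prime_two⟩
  have ha2 : a * a = 1 := mul_self_of_orderOf ha
  obtain ⟨g, h, hh1, hho, -, hhz⟩ := Invol.exists_inverted_odd ha fun N hN hNp haN => by
    rw [H.core N hN hNp, mem_bot] at haN
    rw [haN, orderOf_one] at ha
    omega
  have hcard : Nat.card V = Nat.card (delta V a).range * Nat.card (delta V a).ker := by
    rw [← Nat.card_congr (QuotientGroup.quotientKerEquivRange (delta V a)).toEquiv]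
    exact (delta V a).ker.card_eq_card_quotient_mul_card_subgroup
  have hle : (delta V a).range ≤ (delta V a).ker := by
    rintro _ ⟨v, rfl⟩
    rw [MonoidHom.mem_ker, H.delta_eq_one, delta_apply, smul_mul', smul_smul, ha2, one_smul,
      mul_comm]
  let f : (delta V a).ker × (delta V a).ker → V := fun p => (p.1 : V) * g • (p.2 : V)
  have hinj : Function.Injective f := by
    intro p p' he
    have hk : ∀ q : (delta V a).ker, a • (q : V) = q := fun q => H.delta_eq_one.1 q.2
    have h1 : ((p.1 : V) * p'.1) = g • ((p.2 : V) * p'.2) := by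
      rw [smul_mul']
      calc (p.1 : V) * p'.1 = ((p.1 : V) * g • (p.2 : V)) * (p'.1 * g • (p.2 : V)) := by
            rw [mul_mul_mul_comm, H.exp, mul_one]
        _ = (p'.1 * g • (p'.2 : V)) * (p'.1 * g • (p.2 : V)) := by
            rw [show (p.1 : V) * g • (p.2 : V) = p'.1 * g • (p'.2 : V) from he]
        _ = g • (p.2 : V) * g • (p'.2 : V) := by
            rw [mul_mul_mul_comm, H.exp, one_mul, mul_comm]
    set u := (p.1 : V) * p'.1 with hu
    have hu1 : a • u = u := by rw [hu, smul_mul', hk, hk]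
    have hu2 : (g * a * g⁻¹) • u = u := by
      rw [h1, smul_smul, inv_mul_cancel_right, mul_smul, smul_mul', hk, hk]
    have hu3 : h • u = u := by
      have hm : a * (g * a * g⁻¹) ∈ MulAction.stabilizer X u :=
        mul_mem (MulAction.mem_stabilizer_iff.2 hu1) (MulAction.mem_stabilizer_iff.2 hu2)
      exact MulAction.mem_stabilizer_iff.1 (zpowers_le.2 hm hhz)
    have hu4 : u = 1 := H.fpf h hh1 hho u hu3
    rw [hu4, eq_comm, smul_eq_iff_eq_inv_smul, smul_one, H.mul_eq_one] at h1
    exact Prod.ext (Subtype.ext (H.mul_eq_one.1 hu4)) (Subtype.ext h1)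
  have hle2 : Nat.card (delta V a).ker * Nat.card (delta V a).ker ≤ Nat.card V := by
    rw [← Nat.card_prod]
    exact Nat.card_le_card_of_injective f hinj
  have heq : (delta V a).range = (delta V a).ker := by
    refine eq_of_le_of_card_ge hle ?_
    rw [hcard] at hle2
    exact Nat.le_of_mul_le_mul_right hle2 Nat.card_pos
  exact ⟨heq, by rw [hcard, heq]⟩

end FPFAct

namespace Offender

variable {B B' : Subgroup X}

omit V in
theorem orderOf_eq_two {b : X} (hb2 : b * b = 1) (h1 : b ≠ 1) : orderOf b = 2 :=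
  orderOf_eq_prime (by rw [pow_two, hb2]) h1

theorem comm (O : Offender V B) {b c : X} (hb : b ∈ B) (hc : c ∈ B) : Commute b c := by
  calc b * c = (b * c)⁻¹ := (inv_eq_self (O.ea _ (mul_mem hb hc))).symm
    _ = c * b := by rw [mul_inv_rev, inv_eq_self (O.ea b hb), inv_eq_self (O.ea c hc)]

theorem isPGroup (O : Offender V B) : IsPGroup 2 B :=
  fun b => ⟨1, Subtype.ext (by simpa [pow_two] using O.ea b b.2)⟩

variable [Finite X] [Finite V] (H : FPFAct X V) (O : Offender V B)
include H O

/-- The fixed points of a nontrivial element of an offender are those of the offender. -/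
theorem ker_eq {b : X} (hb : b ∈ B) (hb1 : b ≠ 1) : (delta V b).ker = fixOf V B := by
  obtain ⟨he, -⟩ := H.invol (orderOf_eq_two (O.ea b hb) hb1)
  refine le_antisymm ?_ fun v hv => MonoidHom.mem_ker.2 (H.delta_eq_one.2 (hv b hb))
  rw [← he]
  rintro _ ⟨v, rfl⟩
  exact O.quad b hb v

theorem fixed_iff {b : X} (hb : b ∈ B) (hb1 : b ≠ 1) {v : V} : b • v = v ↔ v ∈ fixOf V B := by
  rw [← H.delta_eq_one, ← MonoidHom.mem_ker, O.ker_eq H hb hb1]

theorem card_sq : Nat.card (fixOf V B) * Nat.card (fixOf V B) = Nat.card V := by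
  obtain ⟨b, hb, hb1⟩ := B.bot_or_exists_ne_one.resolve_left O.ne
  rw [← O.ker_eq H hb hb1]
  exact (H.invol (orderOf_eq_two (O.ea b hb) hb1)).2

theorem exists_not_mem_fix : ∃ v : V, v ∉ fixOf V B := by
  by_contra! hne
  obtain ⟨b, hb, hb1⟩ := B.bot_or_exists_ne_one.resolve_left O.ne
  exact hb1 (H.faith b fun v => hne v b hb)

theorem card_eq : Nat.card B = Nat.card (fixOf V B) := by
  refine le_antisymm ?_ (Nat.le_of_mul_le_mul_right (by rw [O.card_sq H]; exact O.big) Nat.card_pos)
  obtain ⟨v, hv⟩ := O.exists_not_mem_fix H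
  refine Nat.card_le_card_of_injective (fun b : B => (⟨v * (b : X) • v, O.quad b b.2 v⟩ : fixOf V B))
    fun b c he => ?_
  have h1 : v * (b : X) • v = v * (c : X) • v := congrArg Subtype.val he
  by_contra hbc
  refine hv ((O.fixed_iff H (mul_mem (inv_mem c.2) b.2) ?_).1 ?_)
  · exact fun e => hbc (Subtype.ext (inv_mul_eq_one.1 e).symm)
  · rw [mul_smul, inv_smul_eq_iff]
    exact mul_left_cancel h1

theorem two_le_card : 2 ≤ Nat.card B :=
  (one_lt_card_iff_ne_bot B).2 O.ne

theorem exists_mem_fix : ∃ w ∈ fixOf V B, w ≠ 1 := by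
  refine (fixOf V B).bot_or_exists_ne_one.resolve_left fun e => ?_
  have := O.two_le_card H
  rw [O.card_eq H, e, card_bot] at this
  omega

/-- An offender contains every element centralising the series `1 ≤ C_V(B) ≤ V`. -/
theorem mem_of_trivial {x : X} (h1 : ∀ w ∈ fixOf V B, x • w = w)
    (h2 : ∀ v : V, v * x • v ∈ fixOf V B) : x ∈ B := by
  obtain ⟨v, hv⟩ := O.exists_not_mem_fix H
  let f : B → fixOf V B := fun b => ⟨v * (b : X) • v, O.quad b b.2 v⟩
  have hf : Function.Injective f := fun b c he => by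
    have h1 : v * (b : X) • v = v * (c : X) • v := congrArg Subtype.val he
    by_contra hbc
    refine hv ((O.fixed_iff H (mul_mem (inv_mem c.2) b.2) ?_).1 ?_)
    · exact fun e => hbc (Subtype.ext (inv_mul_eq_one.1 e).symm)
    · rw [mul_smul, inv_smul_eq_iff]
      exact mul_left_cancel h1
  obtain ⟨b, hb⟩ := (((Nat.bijective_iff_injective_and_card f).2 ⟨hf, O.card_eq H⟩).2 ⟨_, h2 v⟩)
  have hbv : (b : X) • v = x • v := mul_left_cancel (congrArg Subtype.val hb : v * (b : X) • v = v * x • v)
  set y := (b : X)⁻¹ * x with hy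
  have hy1 : ∀ w ∈ fixOf V B, y • w = w := fun w hw => by
    rw [hy, mul_smul, h1 w hw]
    exact hw _ (inv_mem b.2)
  have hy2 : ∀ u : V, u * y • u ∈ fixOf V B := fun u => by
    have e : u * y • u = (u * (b : X)⁻¹ • u) * (b : X)⁻¹ • (u * x • u) := by
      rw [smul_mul', ← mul_smul, ← hy,
        show (u * (b : X)⁻¹ • u) * ((b : X)⁻¹ • u * y • u)
          = u * ((b : X)⁻¹ • u * (b : X)⁻¹ • u) * y • u by simp only [mul_assoc],
        H.exp, mul_one]
    rw [e]
    refine mul_mem (O.quad _ (inv_mem b.2) u) ?_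
    rw [h2 u _ (inv_mem b.2)]
    exact h2 u
  have hyy : y * y = 1 := H.faith _ fun u => by
    have hd : y • (u * y • u) = u * y • u := hy1 _ (hy2 u)
    rw [smul_mul', ← mul_smul, mul_comm u] at hd
    exact mul_left_cancel hd
  by_contra hx
  have hyne : y ≠ 1 := fun e => hx (by rw [hy, inv_mul_eq_one] at e; exact e ▸ b.2)
  have hker := (H.invol (orderOf_eq_two hyy hyne)).2
  rw [← O.card_sq H] at hker
  have hle : fixOf V B ≤ (delta V y).ker := fun w hw => MonoidHom.mem_ker.2 (H.delta_eq_one.2 (hy1 w hw))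
  have heq := eq_of_le_of_card_ge hle (Nat.mul_self_le_mul_self_iff.1 hker.le)
  refine hv (heq ▸ MonoidHom.mem_ker.2 (H.delta_eq_one.2 ?_))
  rw [hy, mul_smul, ← hbv, inv_smul_smul]

omit H O [Finite X] [Finite V] in
theorem mem_fixOf_map {g : X} {v : V} :
    v ∈ fixOf V (cj g B) ↔ g⁻¹ • v ∈ fixOf V B := by
  refine ⟨fun h b hb => ?_, fun h c hc => ?_⟩
  · have e := h _ (conj_mem_cj hb)
    rw [mul_smul, mul_smul, smul_eq_iff_eq_inv_smul g] at e
    exact e
  · have e := h _ (mem_cj.1 hc)
    rw [mul_smul, mul_smul, smul_inv_smul] at e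
    exact smul_left_cancel g⁻¹ e

omit H [Finite X] [Finite V] in
theorem conj (g : X) : Offender V (cj g B) := by
  refine ⟨cj_ne_bot O.ne, fun c hc => ?_, fun c hc v => ?_, ?_⟩
  · have e := O.ea _ (mem_cj.1 hc)
    calc c * c = g * ((g⁻¹ * c * g) * (g⁻¹ * c * g)) * g⁻¹ := by group
      _ = 1 := by rw [e]; group
  · rw [mem_fixOf_map]
    have e := O.quad _ (mem_cj.1 hc) (g⁻¹ • v)
    rw [mul_smul, mul_smul, smul_inv_smul] at e
    rwa [smul_mul']
  · have hc : Nat.card (fixOf V (cj g B)) = Nat.card (fixOf V B) :=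
      Nat.card_congr
        { toFun := fun v => ⟨g⁻¹ • (v : V), mem_fixOf_map.1 v.2⟩
          invFun := fun v => ⟨g • (v : V), mem_fixOf_map.2 (by rw [inv_smul_smul]; exact v.2)⟩
          left_inv := fun v => Subtype.ext (smul_inv_smul g (v : V))
          right_inv := fun v => Subtype.ext (inv_smul_smul g (v : V)) }
    rw [hc, card_cj]
    exact O.big

/-- Offenders with the same fixed points are equal. -/
theorem eq_of_fix_eq (O' : Offender V B') (h : fixOf V B' = fixOf V B) : B' = B := by
  refine eq_of_le_of_card_ge (fun b hb => O.mem_of_trivial H (fun w hw => (h ▸ hw) b hb)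
    fun v => h ▸ O'.quad b hb v) ?_
  rw [O.card_eq H, O'.card_eq H, h]

/-- `N(B)` is the stabiliser of the fixed points of `B`. -/
theorem smul_mem_fix {g : X} (hg : g ∈ normalizer (B : Set X)) {v : V} (hv : v ∈ fixOf V B) :
    g • v ∈ fixOf V B := fun b hb => by
  have := hv _ ((mem_normalizer_iff''.1 hg b).1 hb)
  rw [mul_smul, mul_smul, inv_smul_eq_iff] at this
  exact this

theorem mem_normalizer_of_smul_mem {g : X} (h : ∀ v ∈ fixOf V B, g • v ∈ fixOf V B) :
    g ∈ normalizer (B : Set X) := by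
  refine cj_eq_self_iff.1 (O.eq_of_fix_eq H (O.conj g) ?_)
  refine (eq_of_le_of_card_ge (fun v hv => ?_) ?_).symm
  · obtain ⟨⟨w, hw⟩, e⟩ := (Nat.bijective_iff_injective_and_card
      (fun w : fixOf V B => (⟨g • (w : V), h w w.2⟩ : fixOf V B))).2
        ⟨fun a b he => Subtype.ext (smul_left_cancel g (congrArg Subtype.val he)), rfl⟩ |>.2 ⟨v, hv⟩
    rw [mem_fixOf_map, ← show g • w = v from congrArg Subtype.val e, inv_smul_smul]
    exact hw
  · rw [← (O.conj g).card_eq H, card_cj, O.card_eq H]

/-- Mutually normalising offenders coincide. -/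
theorem eq_of_mutual (O' : Offender V B') (h1 : B' ≤ normalizer (B : Set X))
    (h2 : B ≤ normalizer (B' : Set X)) : B' = B := by
  by_cases hd : B ⊓ B' = ⊥
  swap
  · obtain ⟨c, hc, hc1⟩ := (B ⊓ B').bot_or_exists_ne_one.resolve_left hd
    exact O.eq_of_fix_eq H O' (by rw [← O'.ker_eq H hc.2 hc1, O.ker_eq H hc.1 hc1])
  refine O.eq_of_fix_eq H O' ?_
  by_contra hne
  obtain ⟨w, hw, hwU⟩ : ∃ w ∈ fixOf V B, w ∉ fixOf V B' := by
    by_contra! hle
    exact hne (eq_of_le_of_card_ge hle (by
      rw [← Nat.mul_self_le_mul_self_iff, O.card_sq H, O'.card_sq H])).symm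
  have hcm : ∀ b ∈ B, ∀ c ∈ B', Commute b c := fun b hb c hc => by
    have h3 : b * c * b⁻¹ * c⁻¹ ∈ B ⊓ B' := by
      refine ⟨?_, mul_mem ((mem_normalizer_iff.1 (h2 hb) c).1 hc) (B'.inv_mem hc)⟩
      rw [show b * c * b⁻¹ * c⁻¹ = b * (c * b⁻¹ * c⁻¹) by simp only [mul_assoc]]
      exact mul_mem hb ((mem_normalizer_iff.1 (h1 hc) _).1 (B.inv_mem hb))
    rw [hd, mem_bot, mul_inv_eq_one, mul_inv_eq_iff_eq_mul] at h3
    exact h3
  let f : B' → (fixOf V B ⊓ fixOf V B' : Subgroup V) := fun c => ⟨w * (c : X) • w,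
    mul_mem hw (O.smul_mem_fix H (h1 c.2) hw), O'.quad c c.2 w⟩
  have hf : Function.Injective f := fun b c he => by
    have e1 : w * (b : X) • w = w * (c : X) • w := congrArg Subtype.val he
    by_contra hbc
    refine hwU ((O'.fixed_iff H (mul_mem (inv_mem c.2) b.2) ?_).1 ?_)
    · exact fun e => hbc (Subtype.ext (inv_mul_eq_one.1 e).symm)
    · rw [mul_smul, inv_smul_eq_iff]
      exact mul_left_cancel e1
  have hge := Nat.card_le_card_of_injective f hf
  rw [O'.card_eq H] at hge
  have hU := eq_of_le_of_card_ge (inf_le_right : fixOf V B ⊓ fixOf V B' ≤ _) hge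
  have hcard : Nat.card (fixOf V B) ≤ Nat.card (fixOf V B') := by
    rw [← Nat.mul_self_le_mul_self_iff, O.card_sq H, O'.card_sq H]
  exact hne (eq_of_le_of_card_ge (hU.ge.trans inf_le_left) hcard)

theorem le_normalizer_of_isPGroup {P : Subgroup X} (hP : IsPGroup 2 P) (hBP : B ≤ P) :
    P ≤ normalizer (B : Set X) :=
  haveI : Fact (Nat.Prime 2) := ⟨Nat.prime_two⟩
  le_normalizer_of_mutual hP hBP fun g _ h1 h2 => O.eq_of_mutual H (O.conj g) h1 h2

/-- Offenders sharing a nontrivial fixed point coincide. -/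
theorem eq_of_common_fix (O' : Offender V B') {v : V} (hv1 : v ≠ 1) (hv : v ∈ fixOf V B)
    (hv' : v ∈ fixOf V B') : B' = B := by
  have hP := H.isPGroup_stabilizer hv1
  have hB : B ≤ MulAction.stabilizer X v := fun b hb => MulAction.mem_stabilizer_iff.2 (hv b hb)
  have hB' : B' ≤ MulAction.stabilizer X v := fun b hb => MulAction.mem_stabilizer_iff.2 (hv' b hb)
  exact O.eq_of_mutual H O' (hB'.trans (O.le_normalizer_of_isPGroup H hP hB))
    (hB.trans (O'.le_normalizer_of_isPGroup H hP hB'))

/-- An involution normalising an offender fixes one of its fixed points. -/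
theorem exists_fix_of_normalizer {b : X} (hb2 : b * b = 1) (hb : b ∈ normalizer (B : Set X)) :
    ∃ w ∈ fixOf V B, w ≠ 1 ∧ b • w = w := by
  obtain ⟨w, hw, hw1⟩ := O.exists_mem_fix H
  by_cases h : w * b • w = 1
  · exact ⟨w, hw, hw1, (H.mul_eq_one.1 h).symm⟩
  · exact ⟨w * b • w, mul_mem hw (O.smul_mem_fix H hb hw), h,
      by rw [smul_mul', smul_smul, hb2, one_smul, mul_comm]⟩

/-- A nontrivial element of `B` normalises no other conjugate of `B`. -/
theorem eq_of_mem_normalizer (O' : Offender V B') {b : X} (hb : b ∈ B) (hb1 : b ≠ 1)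
    (hn : b ∈ normalizer (B' : Set X)) : B' = B := by
  obtain ⟨w, hw, hw1, hbw⟩ := O'.exists_fix_of_normalizer H (O.ea b hb) hn
  exact O.eq_of_common_fix H O' hw1 ((O.fixed_iff H hb hb1).1 hbw) hw

end Offender

/-- The conjugates of `B`. -/
abbrev Conjs (B : Subgroup X) : Type _ :=
  {C : Subgroup X // ∃ g : X, cj g B = C}

namespace Offender

variable {B : Subgroup X} [Finite X] [Finite V] (H : FPFAct X V) (O : Offender V B)
include H O

theorem card_conjs : Nat.card (Conjs B) = Nat.card B + 1 ∧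
    ∀ C C' : Subgroup X, (∃ g, cj g B = C) → C ≠ B →
      (∃ g, cj g B = C') → C' ≠ B →
      ∃ b ∈ B, cj b C = C' := by
  classical
  haveI := Fintype.ofFinite (Conjs B)
  have hO : ∀ C : Conjs B, Offender V (C : Subgroup X) := fun C => by
    obtain ⟨g, hg⟩ := C.2
    exact hg ▸ O.conj g
  have hC : ∀ C : Conjs B, Nat.card {w : fixOf V (C : Subgroup X) // w ≠ 1} = Nat.card B - 1 := by
    intro C
    haveI := Fintype.ofFinite (fixOf V (C : Subgroup X))
    obtain ⟨g, hg⟩ := C.2
    rw [Nat.card_eq_fintype_card, Fintype.card_subtype_compl, Fintype.card_subtype_eq,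
      ← Nat.card_eq_fintype_card, ← (hO C).card_eq H, ← hg,
      card_cj]
  have hV : Nat.card {v : V // v ≠ 1} = Nat.card B * Nat.card B - 1 := by
    haveI := Fintype.ofFinite V
    rw [Nat.card_eq_fintype_card, Fintype.card_subtype_compl, Fintype.card_subtype_eq,
      ← Nat.card_eq_fintype_card, O.card_eq H, O.card_sq H]
  have hupper : Nat.card (Conjs B) * (Nat.card B - 1) ≤ Nat.card B * Nat.card B - 1 := by
    rw [← hV]
    refine le_trans (le_of_eq ?_) (Nat.card_le_card_of_injective
      (fun p : Σ C : Conjs B, {w : fixOf V (C : Subgroup X) // w ≠ 1} =>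
        (⟨(p.2.1 : V), fun e => p.2.2 (Subtype.ext e)⟩ : {v : V // v ≠ 1})) ?_)
    · rw [Nat.card_sigma, Finset.sum_congr rfl fun C _ => hC C, Finset.sum_const, Finset.card_univ,
        smul_eq_mul, Nat.card_eq_fintype_card]
    · rintro ⟨C, w, hw⟩ ⟨C', w', hw'⟩ he
      have hval : (w : V) = (w' : V) := congrArg Subtype.val he
      obtain rfl : C = C' := Subtype.ext ((hO C').eq_of_common_fix H (hO C)
        (fun e => hw' (Subtype.ext e)) w'.2 (hval ▸ w.2))
      obtain rfl : w = w' := Subtype.ext hval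
      rfl
  have h2 := O.two_le_card H
  have hle : Nat.card (Conjs B) ≤ Nat.card B + 1 := by
    have e : Nat.card B * Nat.card B - 1 = (Nat.card B + 1) * (Nat.card B - 1) := by
      obtain ⟨n, hn⟩ := Nat.exists_eq_add_of_le h2
      rw [hn, show 2 + n - 1 = 1 + n by omega]
      have : (2 + n) * (2 + n) = (2 + n + 1) * (1 + n) + 1 := by ring
      omega
    rw [e] at hupper
    exact Nat.le_of_mul_le_mul_right hupper (by omega)
  let base : Conjs B := ⟨B, 1, cj_one B⟩
  have hne : Nat.card {C : Conjs B // C ≠ base} = Nat.card (Conjs B) - 1 := by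
    rw [Nat.card_eq_fintype_card, Fintype.card_subtype_compl, Fintype.card_subtype_eq,
      Nat.card_eq_fintype_card]
  let act : {C : Conjs B // C ≠ base} → B → {C : Conjs B // C ≠ base} := fun C b =>
    ⟨⟨cj (b : X) (C.1 : Subgroup X), by
      obtain ⟨g, hg⟩ := C.1.2
      exact ⟨b * g, by rw [cj_mul, hg]⟩⟩, fun e => C.2 (Subtype.ext (by
        have e2 := congrArg (cj (b : X)⁻¹) (show cj (b : X) (C.1 : Subgroup X) = B from congrArg Subtype.val e)
        rw [← cj_mul, inv_mul_cancel, cj_one, cj_eq_self_iff.2 (inv_mem (le_normalizer b.2))] at e2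
        exact e2))⟩
  have hinj : ∀ C, Function.Injective (act C) := fun C b c he => by
    have e : cj (b : X) (C.1 : Subgroup X) = cj (c : X) (C.1 : Subgroup X) :=
      congrArg (fun D : {C : Conjs B // C ≠ base} => (D.1 : Subgroup X)) he
    by_contra hbc
    refine C.2 (Subtype.ext (O.eq_of_mem_normalizer H (hO C.1) (mul_mem (inv_mem c.2) b.2)
      (fun e' => hbc (Subtype.ext (inv_mul_eq_one.1 e').symm)) (cj_eq_self_iff.1 ?_)))
    rw [cj_mul, e, ← cj_mul, inv_mul_cancel, cj_one]
  obtain ⟨C₀⟩ : Nonempty {C : Conjs B // C ≠ base} := by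
    by_contra hnone
    refine O.ne (H.core B ⟨fun b hb g => ?_⟩ O.isPGroup)
    by_contra hgb
    refine hnone ⟨⟨⟨_, g, rfl⟩, fun e => hgb ?_⟩⟩
    rw [← show cj g B = B from congrArg Subtype.val e]
    exact conj_mem_cj hb
  have hcard : Nat.card {C : Conjs B // C ≠ base} = Nat.card B := by
    have := Nat.card_le_card_of_injective _ (hinj C₀)
    omega
  refine ⟨by omega, fun C C' hC0 hCB hC' hCB' => ?_⟩
  obtain ⟨b, hb⟩ := ((Nat.bijective_iff_injective_and_card
    (act ⟨⟨C, hC0⟩, fun e => hCB (congrArg Subtype.val e)⟩)).2 ⟨hinj _, hcard.symm⟩).2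
      ⟨⟨C', hC'⟩, fun e => hCB' (congrArg Subtype.val e)⟩
  exact ⟨b, b.2, congrArg (fun D : {C : Conjs B // C ≠ base} => (D.1 : Subgroup X)) hb⟩

end Offender

end Cfsg.Agent.CITPair
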