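import Cfsg.Agent.CITPair.Offender
import Cfsg.Agent.SuzukiTI.Main

/-!
# An offender is a Sylow 2-subgroup and the centraliser of each of its involutions
-/

set_option autoImplicit false

namespace Cfsg.Agent.CITPair

open Subgroup

universe u

variable {X : Type u} [Group X] {V : Type*} [CommGroup V] [MulDistribMulAction X V]

theorem Offender.even_card {B : Subgroup X} [Finite X] (O : Offender V B) : 2 ∣ Nat.card B := by
  haveI : Fact (Nat.Prime 2) := ⟨Nat.prime_two⟩
  obtain ⟨n, hn⟩ := O.isPGroup.exists_card_eq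
  rcases n with _ | n
  · exact absurd (card_eq_one.1 (by simpa using hn)) O.ne
  · exact ⟨2 ^ n, by rw [hn, pow_succ']⟩

instance (B : Subgroup X) : MulAction X (Conjs B) where
  smul x C := ⟨cj x (C : Subgroup X), by
    obtain ⟨g, hg⟩ := C.2
    exact ⟨x * g, by rw [cj_mul, hg]⟩⟩
  one_smul C := Subtype.ext (cj_one _)
  mul_smul x y C := Subtype.ext (cj_mul x y _)

theorem conjs_smul_val {B : Subgroup X} (x : X) (C : Conjs B) :
    ((x • C : Conjs B) : Subgroup X) = cj x (C : Subgroup X) := rfl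

namespace Offender

variable {B : Subgroup X} [Finite X] [Finite V] (H : FPFAct X V) (O : Offender V B)
include H O

theorem eq_of_isPGroup {P : Subgroup X} (hP : IsPGroup 2 P) (hBP : B ≤ P) : P = B := by
  haveI : Fact (Nat.Prime 2) := ⟨Nat.prime_two⟩
  by_contra hne
  obtain ⟨hcard, htrans⟩ := O.card_conjs H
  have hPN := O.le_normalizer_of_isPGroup H hP hBP
  obtain ⟨y, hyP, hyB⟩ := SetLike.exists_of_lt (lt_of_le_of_ne hBP (Ne.symm hne))
  have hodd : ¬ 2 ∣ Nat.card (Conjs B) := by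
    have := O.even_card
    omega
  obtain ⟨C₀, hC₀⟩ : ∃ C₀ : Conjs B, (C₀ : Subgroup X) ≠ B := by
    by_contra! hall
    haveI : Subsingleton (Conjs B) := ⟨fun C C' => Subtype.ext ((hall C).trans (hall C').symm)⟩
    have h1 := Finite.card_le_one_iff_subsingleton.2 (this : Subsingleton (Conjs B))
    have := O.two_le_card H
    omega
  have hyC : cj y (C₀ : Subgroup X) ≠ B := fun e => hC₀ (by
    have e2 := congrArg (cj y⁻¹) e
    rwa [← cj_mul, inv_mul_cancel, cj_one, cj_eq_self_iff.2 (inv_mem (hPN hyP))] at e2)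
  obtain ⟨b, hb, hbC⟩ := htrans (C₀ : Subgroup X) _ C₀.2 hC₀ (y • C₀ : Conjs B).2 hyC
  rw [conjs_smul_val] at hbC
  have hy0 : b⁻¹ * y ∈ normalizer ((C₀ : Subgroup X) : Set X) := cj_eq_self_iff.1 (by
    rw [cj_mul, ← hbC, ← cj_mul, inv_mul_cancel, cj_one])
  have hy0P : b⁻¹ * y ∈ P := mul_mem (inv_mem (hBP hb)) hyP
  have hy01 : b⁻¹ * y ≠ 1 := fun e => hyB (by rw [inv_mul_eq_one] at e; exact e ▸ hb)
  obtain ⟨n, hn⟩ := exists_pow_orderOf_two hP hy0P hy01
  set i := (b⁻¹ * y) ^ n with hi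
  have hiC : i ∈ normalizer ((C₀ : Subgroup X) : Set X) := pow_mem hy0 n
  have hiB : i ∈ normalizer (B : Set X) := hPN (pow_mem hy0P n)
  have hi2 : i * i = 1 := mul_self_of_orderOf hn
  obtain ⟨C, hC⟩ := (H.isPGroup_centralizer hn).nonempty_fixed_point_of_prime_not_dvd_card
    (Conjs B) hodd
  have key : ∀ D : Conjs B, i ∈ normalizer ((D : Subgroup X) : Set X) →
      (C : Subgroup X) = (D : Subgroup X) := by
    intro D hiD
    obtain ⟨g, hg⟩ := D.2
    obtain ⟨g', hg'⟩ := C.2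
    have OD : Offender V (D : Subgroup X) := hg ▸ O.conj g
    have OC : Offender V (C : Subgroup X) := hg' ▸ O.conj g'
    obtain ⟨d, hd, hd1, hdi⟩ : ∃ d ∈ (D : Subgroup X), d ≠ 1 ∧ Commute d i := by
      obtain ⟨d, hd, hd1⟩ := (D : Subgroup X).bot_or_exists_ne_one.resolve_left OD.ne
      have hdm : i * d * i⁻¹ ∈ (D : Subgroup X) := (mem_normalizer_iff.1 hiD d).1 hd
      by_cases h : d * (i * d * i⁻¹) = 1
      · refine ⟨d, hd, hd1, ?_⟩
        have e : i * d * i⁻¹ = d := by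
          rw [← inv_eq_of_mul_eq_one_right h, inv_eq_self (OD.ea d hd)]
        exact (mul_inv_eq_iff_eq_mul.1 e).symm
      · refine ⟨_, mul_mem hd hdm, h, ?_⟩
        have hc := (OD.comm hd hdm).eq
        calc d * (i * d * i⁻¹) * i = d * (i * d) := by group
          _ = i * (i * d * i⁻¹) * d := by
            rw [← mul_assoc i (i * d) i⁻¹, ← mul_assoc i i d, hi2, one_mul, inv_eq_self hi2,
              mul_assoc]
          _ = i * (d * (i * d * i⁻¹)) := by rw [hc, mul_assoc]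
    refine OD.eq_of_mem_normalizer H OC hd hd1 (cj_eq_self_iff.1 ?_)
    have := hC ⟨d, mem_centralizer_singleton_iff.2 hdi.eq⟩
    exact congrArg Subtype.val this
  exact hC₀ ((key C₀ hiC).symm.trans (key ⟨B, 1, cj_one B⟩ hiB))

theorem mem_of_mem_normalizer {P : Subgroup X} (hP : IsPGroup 2 P) {y : X} (hy : y ∈ P)
    (hn : y ∈ normalizer (B : Set X)) : y ∈ B := by
  have h1 : zpowers y ≤ normalizer (B : Set X) := zpowers_le.2 hn
  have h2 : IsPGroup 2 (B ⊔ zpowers y : Subgroup X) :=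
    O.isPGroup.to_sup_of_normal_left' (hP.to_le (zpowers_le.2 hy)) h1
  exact (O.eq_of_isPGroup H h2 le_sup_left).le (le_sup_right (a := B) (mem_zpowers y))

/-- The centraliser of a nontrivial element of an offender is the offender. -/
theorem centralizer_eq {a : X} (ha : a ∈ B) (ha1 : a ≠ 1) :
    centralizer ({a} : Set X) = B :=
  O.eq_of_isPGroup H (H.isPGroup_centralizer (orderOf_eq_two (O.ea a ha) ha1))
    fun _ hb => mem_centralizer_singleton_iff.2 (O.comm hb ha).eq

theorem normalizer_ne_top : normalizer (B : Set X) ≠ ⊤ := fun e =>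
  O.ne (H.core B (normalizer_eq_top_iff.1 e) O.isPGroup)

theorem hyp (h4 : 3 ≤ Nat.card B) : SuzukiTI.Hyp B := by
  refine ⟨O.normalizer_ne_top H, ?_, fun t ht ht2 => O.centralizer_eq H ht ht2.1,
    fun y hy hy1 => (O.centralizer_eq H hy hy1).le⟩
  obtain ⟨a, ha, ha1⟩ := B.bot_or_exists_ne_one.resolve_left O.ne
  obtain ⟨c, hc, hc1, hca⟩ : ∃ c ∈ B, c ≠ 1 ∧ c ≠ a := by
    classical
    by_contra! hall
    have hsub : (B : Set X) ⊆ {1, a} := fun b hb => by
      rcases eq_or_ne b 1 with h | h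
      · exact Or.inl h
      · exact Or.inr (hall b hb h)
    have h := Nat.card_mono (Set.toFinite _) hsub
    simp only [Nat.card_coe_set_eq, Set.ncard_pair (Ne.symm ha1)] at h
    have e : Nat.card B = (B : Set X).ncard := Nat.card_coe_set_eq _
    omega
  exact ⟨a, c, ha, hc, ⟨ha1, O.ea a ha⟩, ⟨hc1, O.ea c hc⟩, fun e => hca e.symm⟩

theorem psl (h4 : 3 ≤ Nat.card B) : ∃ (F : Type) (_ : Field F) (_ : Fintype F), CharP F 2 ∧
    4 ≤ Fintype.card F ∧ Nonempty (X ≃* Matrix.SpecialLinearGroup (Fin 2) F) ∧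
    Nonempty (X ≃* Matrix.ProjectiveSpecialLinearGroup (Fin 2) F) :=
  (O.hyp H h4).psl fun _ hx _ hy => (O.comm hx hy).eq

end Offender

end Cfsg.Agent.CITPair
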