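import Cfsg.Agent.CITPair.OffenderSylow

/-!
# An element of order three moving the fixed points of an offender
-/

set_option autoImplicit false

namespace Cfsg.Agent.CITPair

open Subgroup

universe u

variable {X : Type u} [Group X] {V : Type*} [CommGroup V] [MulDistribMulAction X V]
  [Finite X] [Finite V]

theorem exists_orderOf_three_sl2 (F : Type) [Field F] :
    ∃ A : Matrix.SpecialLinearGroup (Fin 2) F, orderOf A = 3 := by
  haveI : Fact (Nat.Prime 3) := ⟨by decide⟩
  refine ⟨⟨!![0, -1; 1, -1], by simp [Matrix.det_fin_two]⟩, orderOf_eq_prime ?_ ?_⟩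
  · apply Subtype.ext
    show (!![0, -1; 1, -1] : Matrix (Fin 2) (Fin 2) F) ^ 3 = 1
    rw [pow_succ, pow_two, Matrix.mul_fin_two, Matrix.mul_fin_two, Matrix.one_fin_two]
    norm_num
  · intro h
    have h' : (!![0, -1; 1, -1] : Matrix (Fin 2) (Fin 2) F) = 1 := congrArg Subtype.val h
    have := congrFun (congrFun h' 1) 0
    simp at this

theorem Offender.exists_three {B : Subgroup X} (H : FPFAct X V) (O : Offender V B) :
    ∃ x : X, orderOf x = 3 ∧ ∀ w ∈ fixOf V B, x • w ∈ fixOf V B → w = 1 := by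
  suffices ∃ x : X, orderOf x = 3 ∧ x ∉ normalizer (B : Set X) by
    obtain ⟨x, hx, hxn⟩ := this
    refine ⟨x, hx, fun w hw hxw => by_contra fun hw1 => hxn (cj_eq_self_iff.1 ?_)⟩
    refine O.eq_of_common_fix H (O.conj x) (fun e => hw1 ?_) hxw
      (Offender.mem_fixOf_map.2 (by rwa [inv_smul_smul]))
    rwa [smul_eq_iff_eq_inv_smul, smul_one] at e
  have hne := O.normalizer_ne_top H
  by_cases h4 : 3 ≤ Nat.card B
  · obtain ⟨F, _, _, -, -, ⟨e⟩, -⟩ := O.psl H h4
    haveI := (O.hyp H h4).simple
    obtain ⟨A, hA⟩ := exists_orderOf_three_sl2 F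
    have hx : orderOf (e.symm A) = 3 := by rw [MulEquiv.orderOf_eq, hA]
    by_contra! hall
    have hle : normalClosure ({e.symm A} : Set X) ≤ normalizer (B : Set X) := by
      rw [normalClosure, closure_le]
      intro y hy
      obtain ⟨a, rfl, hc⟩ := Group.mem_conjugatesOfSet_iff.1 hy
      obtain ⟨c, rfl⟩ := isConj_iff.1 hc
      exact hall _ (by rw [← MulAut.conj_apply, MulEquiv.orderOf_eq, hx])
    rcases (normalClosure_normal (s := ({e.symm A} : Set X))).eq_bot_or_eq_top with h | h
    · have h1 : e.symm A ∈ (⊥ : Subgroup X) := h ▸ subset_normalClosure rfl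
      rw [mem_bot.1 h1, orderOf_one] at hx
      omega
    · exact hne (top_le_iff.1 (h ▸ hle))
  · have h2 : Nat.card B = 2 := by have := O.two_le_card H; omega
    obtain ⟨x, hx1, hxo⟩ : ∃ x : X, x ≠ 1 ∧ Odd (orderOf x) := by
      by_contra! hall
      have hX : IsPGroup 2 (⊤ : Subgroup X) := isPGroup_of_no_odd fun x _ ho =>
        by_contra fun h1 => hall x h1 ho
      exact O.ne (bot_unique (le_top.trans (H.core ⊤ inferInstance hX).le))
    have hW : Nat.card (fixOf V B) = 2 := by rw [← O.card_eq H, h2]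
    obtain ⟨w, hw, hw1⟩ := O.exists_mem_fix H
    refine ⟨x, ?_, fun hn => hw1 (H.fpf x hx1 hxo w ?_)⟩
    · have hV : Nat.card {v : V // v ≠ 1} = 3 := by
        classical
        haveI := Fintype.ofFinite V
        rw [Nat.card_eq_fintype_card, Fintype.card_subtype_compl, Fintype.card_subtype_eq,
          ← Nat.card_eq_fintype_card, ← O.card_sq H, hW]
      have hle : orderOf x ≤ 3 := by
        rw [← hV, ← Nat.card_zpowers]
        refine Nat.card_le_card_of_injective (fun y : zpowers x => (⟨(y : X) • w, fun e => hw1 (by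
          rwa [smul_eq_iff_eq_inv_smul, smul_one] at e)⟩ : {v : V // v ≠ 1})) fun y z e => ?_
        have e' : (y : X) • w = (z : X) • w := congrArg Subtype.val e
        have hfix : ((z : X)⁻¹ * y) • w = w := by rw [mul_smul, e', inv_smul_smul]
        by_contra hyz
        refine hw1 (H.fpf _ (fun e1 => hyz (Subtype.ext (inv_mul_eq_one.1 e1).symm)) ?_ w hfix)
        exact hxo.of_dvd_nat (orderOf_dvd_of_mem_zpowers (mul_mem (inv_mem z.2) y.2))
      have hne1 : orderOf x ≠ 1 := fun e => hx1 (orderOf_eq_one_iff.1 e)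
      rw [Nat.odd_iff] at hxo
      omega
    · by_contra hxw
      have hm := O.smul_mem_fix H hn hw
      haveI := Fintype.ofFinite (fixOf V B)
      have h3 : ({⟨1, one_mem _⟩, ⟨w, hw⟩, ⟨x • w, hm⟩} : Set (fixOf V B)).ncard ≤ 2 := by
        rw [← hW, ← Set.ncard_univ]
        exact Set.ncard_le_ncard (Set.subset_univ _) (Set.toFinite _)
      rw [Set.ncard_insert_of_notMem, Set.ncard_pair] at h3
      · omega
      · exact fun e => hxw (congrArg Subtype.val e).symm
      · simp only [Set.mem_insert_iff, Set.mem_singleton_iff, Subtype.mk.injEq, not_or]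
        refine ⟨Ne.symm hw1, fun e => hw1 ?_⟩
        rw [eq_comm, smul_eq_iff_eq_inv_smul, smul_one] at e
        exact e

end Cfsg.Agent.CITPair
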