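import Cfsg.Agent.CITPair.Central

/-!
# Two maximal 2-locals sharing a Sylow 2-subgroup
-/

set_option autoImplicit false

namespace Cfsg.Agent.CITPair

open Subgroup
open scoped commutatorElement Pointwise

universe u

variable {G : Type u} [Group G]

/-- The subgroup generated by the squares of the elements of `Q`. -/
def sqC (Q : Subgroup G) : Subgroup G := closure ((fun x => x * x) '' (Q : Set G))

theorem sqC_le (Q : Subgroup G) : sqC Q ≤ Q := by
  rw [sqC, closure_le]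
  rintro _ ⟨x, hx, rfl⟩
  exact mul_mem hx hx

theorem sqC_cj (g : G) (Q : Subgroup G) : cj g (sqC Q) = sqC (cj g Q) := by
  rw [sqC, sqC, cj, MonoidHom.map_closure, ← Set.image_comp]
  congr 1
  ext y
  simp only [Set.mem_image, Function.comp_apply, SetLike.mem_coe, MonoidHom.coe_coe,
    MulAut.conj_apply]
  constructor
  · rintro ⟨x, hx, rfl⟩
    exact ⟨g * x * g⁻¹, conj_mem_cj hx, by group⟩
  · rintro ⟨x, hx, rfl⟩
    exact ⟨g⁻¹ * x * g, mem_cj.1 hx, by group⟩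

theorem normalizer_le_sqC (Q : Subgroup G) :
    normalizer (Q : Set G) ≤ normalizer (sqC Q : Set G) := fun g hg => by
  rw [← cj_eq_self_iff, sqC_cj, cj_eq_self_iff.2 hg]

namespace Par

variable {N Q T : Subgroup G} {q : ℕ} [Finite G] (hC : CIT G) (P : Par N Q T q)
  {N' Q' : Subgroup G} (L' : Loc N' Q') (hT' : T ≤ N')
  (hsyl' : ∀ R : Subgroup G, R ≤ N' → IsPGroup 2 R → T ≤ R → R = T)
include hC P L' hT' hsyl'

omit hC in
theorem Q'_le : Q' ≤ T := by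
  have h := hsyl' (T ⊔ Q') (sup_le hT' L'.le)
    (P.two.to_sup_of_normal_right' L'.two (hT'.trans L'.norm)) le_sup_left
  exact h ▸ le_sup_right

theorem W_le' : VV Q ⊓ centralizer (T : Set G) ≤ VV Q' := fun w hw =>
  L'.mem_VV_of_commute hC (hT' (P.Qle hw.1.1)) hw.1.2.1 fun r hr =>
    P.W_comm hw (P.Q'_le L' hT' hsyl' hr)

/-- The case `Ω₁(Z(Q')) ≰ Q`. -/
theorem pair_alpha (hB : ¬ VV Q' ≤ Q) :
    (sqC Q = sqC Q' ∧ sqC Q ≠ ⊥) ∨
      (Q = VV Q ∧ Q' = VV Q' ∧ T = VV Q ⊔ VV Q' ∧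
        VV Q ⊓ VV Q' = VV Q ⊓ centralizer (T : Set G) ∧ Par N' Q' T q) := by
  have hQ'T := P.Q'_le L' hT' hsyl'
  have hBT : VV Q' ≤ T := (VV_le Q').trans hQ'T
  have hVT : VV Q ≤ T := (VV_le Q).trans P.Qle
  have hnV : ∀ t ∈ T, ∀ v ∈ VV Q, t * v * t⁻¹ ∈ VV Q := fun t ht v hv =>
    conj_mem_VV (P.loc.norm (P.le ht)) hv
  have hnB : ∀ t ∈ T, ∀ v ∈ VV Q', t * v * t⁻¹ ∈ VV Q' := fun t ht v hv =>
    conj_mem_VV (L'.norm (hT' ht)) hv
  obtain ⟨a, haB, haQ⟩ := SetLike.not_le_iff_exists.1 hB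
  set W := VV Q ⊓ centralizer (T : Set G) with hW
  have hWB : W ≤ VV Q' := P.W_le' hC L' hT' hsyl'
  have hVB : VV Q ⊓ VV Q' = W := le_antisymm
    (fun v hv => ⟨hv.1, P.cent a (hBT haB) haQ v hv.1 (VV_comm haB hv.2)⟩)
    (fun v hv => ⟨hv.1, hWB hv⟩)
  have hVnQ' : ¬ VV Q ≤ Q' := fun h => by
    have hle : VV Q ≤ W := fun v hv =>
      ⟨hv, P.cent a (hBT haB) haQ v hv (haB.2.2 v (h hv)).symm⟩
    have := card_le_of_le hle
    rw [P.cardV, hW, P.cardW] at this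
    have h2 := P.two_le
    nlinarith
  have hVQ' : VV Q ⊓ Q' = W := le_antisymm
    (fun v hv => ⟨hv.1, P.cent a (hBT haB) haQ v hv.1 (haB.2.2 v hv.2).symm⟩)
    (fun v hv => ⟨hv.1, VV_le Q' (hWB hv)⟩)
  have cardB : Nat.card (VV Q') ≤ q * Nat.card (VV Q' ⊓ Q : Subgroup G) := by
    have h1 := S0606.card_sup_mul_card_inf_of_le_normalizer
      (H := VV Q') (N := Q) ((hBT.trans P.le).trans P.loc.norm)
    have h2 := card_le_of_le (sup_le hBT P.Qle : VV Q' ⊔ Q ≤ T)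
    rw [P.cardT] at h2
    refine Nat.le_of_mul_le_mul_right ?_ (Nat.card_pos (α := Q))
    rw [← h1]
    calc _ ≤ q * Nat.card Q * Nat.card (VV Q' ⊓ Q : Subgroup G) := Nat.mul_le_mul_right _ h2
      _ = _ := by ring
  have hBQle : VV Q' ⊓ Q ≤ VV Q' ⊓ centralizer (VV Q : Set G) := fun b hb =>
    ⟨hb.1, mem_centralizer_iff.2 fun v hv => (hv.2.2 b hb.2).eq.symm⟩
  have hoff : OffIn N' Q' (VV Q) := by
    refine ⟨hVT.trans hT', fun b hb => hb.2.1, hVnQ', fun b hb c hc v hv => ?_, ?_⟩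
    · refine (VV_comm hc ?_)
      have : v * (b * v * b⁻¹) = (v * b * v⁻¹) * b⁻¹ := by
        rw [inv_eq_self hv.2.1]; simp only [mul_assoc]
      rw [this]
      exact mul_mem (hnV v (hBT hv) b hb) (inv_mem hb)
    · rw [hVQ', hW, P.cardW, P.cardV, mul_assoc, mul_comm (Nat.card (VV Q'))]
      exact Nat.mul_le_mul_left _ (cardB.trans (Nat.mul_le_mul_left _ (card_le_of_le hBQle)))
  obtain ⟨q', P', hq', hW'⟩ := par_of_offIn hC L' hT' P.two hsyl' hVT hoff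
  rw [hVQ', hW, P.cardW, P.cardV] at hq'
  have hqq : q' = q := Nat.eq_of_mul_eq_mul_right (by have := P.two_le; omega) hq'.symm
  rw [hqq] at P'
  -- the subgroups `V'` and `V ⊓ Q'`
  have hBQ : VV Q' ⊓ Q = W := by
    refine (eq_of_le_of_card_ge (le_inf hWB (inf_le_left.trans (VV_le Q)) : W ≤ VV Q' ⊓ Q) ?_).symm
    have h1 := card_le_of_le hBQle
    rw [hW', P'.cardW] at h1
    rw [hW, P.cardW]
    exact h1
  have hQQ' : Q = VV Q ⊔ (Q ⊓ Q') := by
    refine (eq_of_le_of_card_ge (sup_le (VV_le Q) inf_le_left) ?_).symm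
    have h1 := S0606.card_sup_mul_card_inf_of_le_normalizer (H := VV Q) (N := Q ⊓ Q')
      (le_trans (fun v hv => mem_centralizer_iff.2 fun r hr => (hv.2.2 r hr.1).eq)
        (centralizer_le_normalizer _))
    have h2 : VV Q ⊓ (Q ⊓ Q') = W := by
      rw [← inf_assoc, inf_of_le_left (VV_le Q), hVQ']
    rw [h2, hW, P.cardW, P.cardV] at h1
    have h3 := S0606.card_sup_mul_card_inf_of_le_normalizer (H := Q) (N := Q')
      ((P.Qle.trans hT').trans L'.norm)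
    have h4 := card_le_of_le (sup_le P.Qle hQ'T : Q ⊔ Q' ≤ T)
    rw [P'.cardT] at h4
    have h5 : Nat.card Q ≤ q * Nat.card (Q ⊓ Q' : Subgroup G) := by
      refine Nat.le_of_mul_le_mul_right ?_ (Nat.card_pos (α := Q'))
      rw [← h3]
      calc _ ≤ q * Nat.card Q' * Nat.card (Q ⊓ Q' : Subgroup G) := Nat.mul_le_mul_right _ h4
        _ = _ := by ring
    refine Nat.le_of_mul_le_mul_right ?_ (show 0 < q by have := P.two_le; omega)
    rw [h1]
    calc Nat.card Q * q ≤ q * Nat.card (Q ⊓ Q' : Subgroup G) * q := Nat.mul_le_mul_right _ h5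
      _ = q * q * Nat.card (Q ⊓ Q' : Subgroup G) := by ring
  have hQ'Q : Q' = VV Q' ⊔ (Q' ⊓ Q) := by
    refine (eq_of_le_of_card_ge (sup_le (VV_le Q') inf_le_left) ?_).symm
    have h1 := S0606.card_sup_mul_card_inf_of_le_normalizer (H := VV Q') (N := Q' ⊓ Q)
      (le_trans (fun v hv => mem_centralizer_iff.2 fun r hr => (hv.2.2 r hr.1).eq)
        (centralizer_le_normalizer _))
    have h2 : VV Q' ⊓ (Q' ⊓ Q) = W := by
      rw [← inf_assoc, inf_of_le_left (VV_le Q'), hBQ]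
    rw [h2, hW, P.cardW, P'.cardV] at h1
    have h3 := S0606.card_sup_mul_card_inf_of_le_normalizer (H := Q') (N := Q)
      ((hQ'T.trans P.le).trans P.loc.norm)
    have h4 := card_le_of_le (sup_le hQ'T P.Qle : Q' ⊔ Q ≤ T)
    rw [P.cardT] at h4
    have h5 : Nat.card Q' ≤ q * Nat.card (Q' ⊓ Q : Subgroup G) := by
      refine Nat.le_of_mul_le_mul_right ?_ (Nat.card_pos (α := Q))
      rw [← h3]
      calc _ ≤ q * Nat.card Q * Nat.card (Q' ⊓ Q : Subgroup G) := Nat.mul_le_mul_right _ h4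
        _ = _ := by ring
    refine Nat.le_of_mul_le_mul_right ?_ (show 0 < q by have := P.two_le; omega)
    rw [h1]
    calc Nat.card Q' * q ≤ q * Nat.card (Q' ⊓ Q : Subgroup G) * q := Nat.mul_le_mul_right _ h5
      _ = q * q * Nat.card (Q' ⊓ Q : Subgroup G) := by ring
  have hsq : ∀ R R' : Subgroup G, R = VV R ⊔ (R ⊓ R') → sqC R ≤ sqC R' := by
    intro R R' hR
    rw [sqC, closure_le]
    rintro _ ⟨x, hx, rfl⟩
    have hxm : x ∈ (↑(VV R) * ↑(R ⊓ R') : Set G) := by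
      rw [← coe_mul_of_left_le_normalizer_right _ _ ((le_centralizer_iff.1 (fun r hr => mem_centralizer_iff.2 fun v hv =>
        (hv.2.2 r hr.1).eq.symm : R ⊓ R' ≤ centralizer (VV R : Set G))).trans
          (centralizer_le_normalizer _)), ← hR]
      exact hx
    obtain ⟨v, hv, r, hr, rfl⟩ := Set.mem_mul.1 hxm
    show v * r * (v * r) ∈ sqC R'
    rw [(hv.2.2 r hr.1).mul_mul_mul_comm, hv.2.1, one_mul]
    exact subset_closure ⟨r, hr.2, rfl⟩
  have hsqeq : sqC Q = sqC Q' := le_antisymm (hsq Q Q' hQQ') (hsq Q' Q hQ'Q)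
  by_cases h0 : sqC Q = ⊥
  swap
  · exact Or.inl ⟨hsqeq, h0⟩
  have helem : ∀ R : Subgroup G, sqC R = ⊥ → R = VV R := fun R h => by
    have h2 : ∀ r ∈ R, r * r = 1 := fun r hr => mem_bot.1 (h ▸ subset_closure ⟨r, hr, rfl⟩)
    refine le_antisymm (fun x hx => ⟨hx, h2 x hx, fun r hr => ?_⟩) (VV_le R)
    calc r * x = (r * x)⁻¹ := (inv_eq_self (h2 _ (mul_mem hr hx))).symm
      _ = x * r := by rw [mul_inv_rev, inv_eq_self (h2 r hr), inv_eq_self (h2 x hx)]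
  have e1 := helem Q h0
  have e2 := helem Q' (hsqeq ▸ h0)
  refine Or.inr ⟨e1, e2, ?_, hVB, P'⟩
  refine (eq_of_le_of_card_ge (sup_le hVT hBT) ?_).symm
  have h1 := S0606.card_sup_mul_card_inf_of_le_normalizer (H := VV Q) (N := VV Q')
    ((hVT.trans hT').trans L'.le_normalizer_VV)
  rw [hVB, hW, P.cardW, P.cardV, P'.cardV] at h1
  refine Nat.le_of_mul_le_mul_right ?_ (show 0 < q by have := P.two_le; omega)
  rw [h1, P.cardT]
  conv_lhs => rw [e1, P.cardV]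
  exact le_of_eq (by ring)

/-- The case `Ω₁(Z(Q')) ≤ Q`. -/
theorem pair_beta (hne : T ≠ Q') {A : Subgroup G} (hA : MaxEA T A) (hAQ : ¬ A ≤ Q)
    (hB : VV Q' ≤ Q) : Q' = Q := by
  have hQ'T := P.Q'_le L' hT' hsyl'
  have hBT : VV Q' ≤ T := (VV_le Q').trans hQ'T
  haveI : Fact (Nat.Prime 2) := ⟨Nat.prime_two⟩
  haveI : Group.IsNilpotent T := P.two.isNilpotent
  set Z := center T with hZ
  haveI hBn : ((VV Q').subgroupOf T).Normal :=
    normal_subgroupOf_of_le_normalizer (hT'.trans L'.le_normalizer_VV)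
  haveI : (((VV Q').subgroupOf T).map (QuotientGroup.mk' Z)).Normal :=
    hBn.map _ (QuotientGroup.mk'_surjective Z)
  have hne' : ((VV Q').subgroupOf T).map (QuotientGroup.mk' Z) ≠ ⊥ := fun e => by
    rw [Subgroup.map_eq_bot_iff, QuotientGroup.ker_mk'] at e
    refine hne (le_antisymm (fun t ht => L'.mem_of_centralizes hC (hT' ht) fun v hv => ?_) hQ'T)
    exact (congrArg Subtype.val (mem_center_iff.1 (e (show (⟨v, hBT hv⟩ : T) ∈ _ from hv)) ⟨t, ht⟩) : _)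
  obtain ⟨z, hz, hz1⟩ := (_ : Subgroup (T ⧸ Z)).bot_or_exists_ne_one.resolve_left
    (Core.inf_center_ne_bot hne')
  obtain ⟨⟨y, hyB, rfl⟩, hzc⟩ := mem_inf.1 hz
  set W := VV Q ⊓ centralizer (T : Set G) with hW
  have hcomm : ∀ r : T, ⁅(y : G), (r : G)⁆ ∈ W := by
    intro r
    have h1 : ⁅y, r⁆ ∈ Z := by
      rw [← QuotientGroup.ker_mk' Z, MonoidHom.mem_ker, map_commutatorElement,
        commutatorElement_eq_one_iff_mul_comm]
      exact (mem_center_iff.1 hzc _).symm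
    have h2 : ((⁅y, r⁆ : T) : G) ∈ VV Q' := by
      rw [commutatorElement_def]
      push_cast
      rw [show (y : G) * r * (y : G)⁻¹ * (r : G)⁻¹ = y * (r * (y : G)⁻¹ * (r : G)⁻¹) by
        simp only [mul_assoc]]
      exact mul_mem (mem_subgroupOf.1 hyB)
        (conj_mem_VV (L'.norm (hT' r.2)) (inv_mem (mem_subgroupOf.1 hyB)))
    have h3 : ((⁅y, r⁆ : T) : G) = ⁅(y : G), (r : G)⁆ := by simp [commutatorElement_def]
    rw [← h3]
    exact P.mem_W hC (⁅y, r⁆ : T).2 h2.2.1 fun t ht =>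
      congrArg Subtype.val (mem_center_iff.1 h1 ⟨t, ht⟩)
  have hyQ : (y : G) ∈ Q := hB (mem_subgroupOf.1 hyB)
  have hyV : (y : G) ∈ VV Q := ⟨hyQ, (mem_subgroupOf.1 hyB).2.1,
    P.mem_center_of_comm hC hyQ fun r hr => hcomm ⟨r, P.Qle hr⟩⟩
  have hyW : (y : G) ∉ centralizer (T : Set G) := fun h => hz1 (by
    rw [QuotientGroup.mk'_apply, QuotientGroup.eq_one_iff]
    exact mem_center_iff.2 fun t => Subtype.ext (mem_centralizer_iff.1 h t t.2))
  have hQ'Q : Q' ≤ Q := fun r hr => by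
    by_contra hrQ
    exact hyW (P.cent r (hQ'T hr) hrQ y hyV ((mem_subgroupOf.1 hyB).2.2 r hr))
  obtain ⟨q', P'⟩ := exists_par hC L' hT' P.two hsyl' hA fun h => hAQ (h.trans hQ'Q)
  have hWW : VV Q' ⊓ centralizer (T : Set G) = W := le_antisymm
    (fun w hw => P.mem_W hC (hBT hw.1) hw.1.2.1 fun t ht => mem_centralizer_iff.1 hw.2 t ht)
    (fun w hw => P'.mem_W hC (P.Qle hw.1.1) hw.1.2.1 fun t ht => mem_centralizer_iff.1 hw.2 t ht)
  have hqq : q' = q := by rw [← P'.cardW, hWW, hW, P.cardW]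
  have h := P'.cardT
  rw [hqq, P.cardT] at h
  exact eq_of_le_of_card_ge hQ'Q
    (Nat.eq_of_mul_eq_mul_left (by have := P.two_le; omega) h).le

/-- Two 2-locals with the common Sylow subgroup `T`. -/
theorem pair (hne : T ≠ Q') {A : Subgroup G} (hA : MaxEA T A) (hAQ : ¬ A ≤ Q) :
    Q' = Q ∨ (sqC Q = sqC Q' ∧ sqC Q ≠ ⊥) ∨
      (Q = VV Q ∧ Q' = VV Q' ∧ T = VV Q ⊔ VV Q' ∧
        VV Q ⊓ VV Q' = VV Q ⊓ centralizer (T : Set G) ∧ Par N' Q' T q) := by
  by_cases hB : VV Q' ≤ Q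
  · exact Or.inl (P.pair_beta hC L' hT' hsyl' hne hA hAQ hB)
  · exact Or.inr (P.pair_alpha hC L' hT' hsyl' hB)

end Par

end Cfsg.Agent.CITPair
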