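import Cfsg.Agent.CITPair.Local

/-!
# An offender on `Ω₁(Z(Q))` determines the structure of a Sylow 2-subgroup of a 2-local subgroup
-/

set_option autoImplicit false

namespace Cfsg.Agent.CITPair

open Subgroup

universe u

variable {G : Type u} [Group G]

/-- The automorphism of `Ω₁(Z(Q))` induced by an element of `N`. -/
def actMap {N Q : Subgroup G} (h : N ≤ normalizer (VV Q : Set G)) : N →* MulAut (VV Q) where
  toFun n :=
    { toFun := fun v => ⟨(n : G) * v * (n : G)⁻¹, (mem_normalizer_iff.1 (h n.2) v).1 v.2⟩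
      invFun := fun v => ⟨(n : G)⁻¹ * v * n, (mem_normalizer_iff''.1 (h n.2) v).1 v.2⟩
      left_inv := fun v => Subtype.ext (by simp [mul_assoc])
      right_inv := fun v => Subtype.ext (by simp [mul_assoc])
      map_mul' := fun v w => Subtype.ext (by simp [mul_assoc]) }
  map_one' := by ext v; simp
  map_mul' m n := by ext v; simp [mul_assoc]

theorem actMap_apply {N Q : Subgroup G} (h : N ≤ normalizer (VV Q : Set G)) (n : N) (v : VV Q) :
    ((actMap h n v : VV Q) : G) = (n : G) * v * (n : G)⁻¹ := rfl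

/-- The group of automorphisms of `Ω₁(Z(Q))` induced by `N`. -/
abbrev Img {N Q : Subgroup G} (L : Loc N Q) : Type u := (actMap L.le_normalizer_VV).range

/-- The image of an element in the induced group. -/
abbrev img {N Q : Subgroup G} (L : Loc N Q) : N →* Img L := (actMap L.le_normalizer_VV).rangeRestrict

theorem img_smul {N Q : Subgroup G} (L : Loc N Q) (n : N) (v : VV Q) :
    ((img L n • v : VV Q) : G) = (n : G) * v * (n : G)⁻¹ := rfl

theorem img_surjective {N Q : Subgroup G} (L : Loc N Q) : Function.Surjective (img L) :=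
  (actMap L.le_normalizer_VV).rangeRestrict_surjective

/-- The offender hypotheses inside `G`. -/
structure OffIn (N Q B : Subgroup G) : Prop where
  le : B ≤ N
  ea : ∀ b ∈ B, b * b = 1
  nle : ¬ B ≤ Q
  quad : ∀ b ∈ B, ∀ c ∈ B, ∀ v ∈ VV Q, Commute c (v * (b * v * b⁻¹))
  big : Nat.card (VV Q) * Nat.card (B ⊓ Q : Subgroup G) ≤
    Nat.card B * Nat.card (VV Q ⊓ centralizer (B : Set G) : Subgroup G)

/-- The structure of a parabolic-like subgroup. -/
structure Par (N Q T : Subgroup G) (q : ℕ) : Prop where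
  loc : Loc N Q
  le : T ≤ N
  two : IsPGroup 2 T
  Qle : Q ≤ T
  syl : ∀ P : Subgroup G, P ≤ N → IsPGroup 2 P → T ≤ P → P = T
  cardT : Nat.card T = q * Nat.card Q
  two_le : 2 ≤ q
  cardV : Nat.card (VV Q) = q * q
  cardW : Nat.card (VV Q ⊓ centralizer (T : Set G) : Subgroup G) = q
  cent : ∀ a ∈ T, a ∉ Q → ∀ v ∈ VV Q, Commute a v → v ∈ centralizer (T : Set G)
  comm_mem : ∀ a ∈ T, ∀ v ∈ VV Q, v * (a * v * a⁻¹) ∈ centralizer (T : Set G)
  comm_surj : ∀ a ∈ T, a ∉ Q → ∀ w ∈ VV Q ⊓ centralizer (T : Set G),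
    ∃ v ∈ VV Q, w = v * (a * v * a⁻¹)
  sq_mem : ∀ a ∈ T, a * a ∈ Q
  three : ∃ x ∈ N, orderOf x = 3 ∧ ∀ w ∈ VV Q ⊓ centralizer (T : Set G),
    x * w * x⁻¹ ∈ centralizer (T : Set G) → w = 1

theorem card_inf_mul_card_map {G' : Type*} [Group G'] (f : G →* G') (K : Subgroup G) :
    Nat.card (f.ker ⊓ K : Subgroup G) * Nat.card (K.map f) = Nat.card K := by
  rw [← relIndex_ker, Subgroup.relIndex, ← Subgroup.card_mul_index (f.ker.subgroupOf K)]
  congr 1
  rw [← inf_subgroupOf_right, Nat.card_congr (subgroupOfEquivOfLe inf_le_right).toEquiv]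

namespace Loc

variable {N Q : Subgroup G} (L : Loc N Q) [Finite G] (hC : CIT G)
include hC

theorem ker_img (n : N) : img L n = 1 ↔ (n : G) ∈ Q := by
  refine ⟨fun h => L.mem_of_centralizes hC n.2 fun v hv => ?_, fun h => ?_⟩
  · have := congrArg (fun f : Img L => ((f • (⟨v, hv⟩ : VV Q) : VV Q) : G)) h
    simp only [img_smul, one_smul] at this
    exact mul_inv_eq_iff_eq_mul.1 this
  · refine Subtype.ext (MulEquiv.ext fun v => Subtype.ext ?_)
    show (n : G) * v * (n : G)⁻¹ = v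
    rw [(v.2.2.2 _ h).eq, mul_inv_cancel_right]

theorem card_ker_inf (K : Subgroup N) :
    Nat.card ((img L).ker ⊓ K : Subgroup N) = Nat.card (K.map N.subtype ⊓ Q : Subgroup G) := by
  rw [← card_map_of_injective (K := (img L).ker ⊓ K) N.subtype_injective]
  have e : ((img L).ker ⊓ K).map N.subtype = K.map N.subtype ⊓ Q := by
    ext x
    simp only [mem_map, mem_inf, MonoidHom.mem_ker, L.ker_img hC, subtype_apply]
    exact ⟨fun ⟨n, ⟨h1, h2⟩, e⟩ => ⟨⟨n, h2, e⟩, e ▸ h1⟩, fun ⟨⟨n, h2, e⟩, h1⟩ => ⟨n, ⟨e ▸ h1, h2⟩, e⟩⟩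
  rw [e]

theorem fpfAct : FPFAct (Img L) (VV Q) := by
  classical
  have odd_lift : ∀ y : Img L, y ≠ 1 → Odd (orderOf y) → ∀ v : VV Q, y • v = v → v = 1 := by
    intro y hy1 hyo v hyv
    by_contra hv1
    obtain ⟨n, hn⟩ := img_surjective L y
    obtain ⟨k, m, hm, hd⟩ :=
      Nat.exists_eq_pow_mul_and_not_dvd (orderOf_pos (n : G)).ne' 2 (by decide)
    have hyn : (n : G) ^ 2 ^ k = 1 := by
      refine eq_one_of_odd_commute hC (L.two.to_le (VV_le Q)) v.2 (fun e => hv1 (Subtype.ext e)) ?_ ?_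
      · refine Commute.pow_left ?_ _
        have := congrArg (fun u : VV Q => (u : G)) hyv
        rw [← hn, img_smul] at this
        exact mul_inv_eq_iff_eq_mul.1 this
      · rw [orderOf_pow_of_dvd (by positivity) ⟨m, hd⟩, hd, Nat.mul_div_cancel_left _ (by positivity)]
        exact Nat.odd_iff.2 (by omega)
    have : y ^ 2 ^ k = 1 := by
      rw [← hn, ← map_pow, show n ^ 2 ^ k = 1 from Subtype.ext hyn, map_one]
    obtain ⟨i, -, hi⟩ := (Nat.dvd_prime_pow Nat.prime_two).1 (orderOf_dvd_of_pow_eq_one this)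
    rcases i with _ | i
    · exact hy1 (orderOf_eq_one_iff.1 (by simpa using hi))
    · rw [hi, Nat.odd_iff, pow_succ] at hyo
      omega
  refine ⟨fun y h => Subtype.ext (MulEquiv.ext h), fun v => Subtype.ext v.2.2.1, odd_lift, ?_, ?_⟩
  · intro a ha y hya hyo
    by_contra hy1
    obtain ⟨p, hp, hpd⟩ := Nat.exists_prime_and_dvd (mt orderOf_eq_one_iff.1 hy1)
    haveI := Fact.mk hp
    have hp2 : p ≠ 2 := fun e => by
      obtain ⟨c, hc⟩ := e ▸ hpd
      rw [hc, Nat.odd_iff] at hyo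
      omega
    set z := y ^ (orderOf y / p) with hz
    have hzo : orderOf z = p := by
      rw [hz, orderOf_pow_of_dvd _ (Nat.div_dvd_of_dvd hpd), Nat.div_div_self hpd (orderOf_pos y).ne']
      exact (Nat.div_pos (Nat.le_of_dvd (orderOf_pos y) hpd) hp.pos).ne'
    obtain ⟨n₀, hn₀⟩ := img_surjective L z
    obtain ⟨e, m, hm, hd⟩ :=
      Nat.exists_eq_pow_mul_and_not_dvd (orderOf_pos n₀).ne' p hp.ne_one
    set n := n₀ ^ m with hn
    have hnz : img L n = z ^ m := by rw [hn, map_pow, hn₀]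
    have hzm : z ^ m ≠ 1 := fun h => hm (hzo ▸ orderOf_dvd_of_pow_eq_one h)
    have hnp : n ^ p ^ e = 1 := by rw [hn, ← pow_mul, mul_comm, ← hd, pow_orderOf_eq_one]
    have hza : Commute (z ^ m) a := (hya.pow_left _).pow_left _
    haveI : Fintype {g : N // img L g = a} := Fintype.ofFinite _
    let σ : Equiv.Perm {g : N // img L g = a} :=
      { toFun := fun g => ⟨n * g.1 * n⁻¹, by
          rw [map_mul, map_mul, map_inv, g.2, hnz, hza.eq, mul_inv_cancel_right]⟩
        invFun := fun g => ⟨n⁻¹ * g.1 * n, by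
          rw [map_mul, map_mul, map_inv, g.2, hnz, mul_assoc, ← hza.eq, inv_mul_cancel_left]⟩
        left_inv := fun g => Subtype.ext (by simp [mul_assoc])
        right_inv := fun g => Subtype.ext (by simp [mul_assoc]) }
    have hσ : ∀ (i : ℕ) (g : {g : N // img L g = a}), ((σ ^ i) g).1 = n ^ i * g.1 * (n ^ i)⁻¹ := by
      intro i
      induction i with
      | zero => intro g; simp
      | succ i ih =>
        intro g
        rw [pow_succ', Equiv.Perm.mul_apply, pow_succ']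
        show n * ((σ ^ i) g).1 * n⁻¹ = _
        rw [ih, mul_inv_rev]; group
    have hσp : σ ^ p ^ e = 1 := Equiv.ext fun g => Subtype.ext (by rw [hσ, hnp]; simp)
    obtain ⟨g₀, hg₀⟩ := img_surjective L a
    have hcard : Fintype.card {g : N // img L g = a} = Nat.card Q := by
      rw [← Nat.card_eq_fintype_card]
      refine Nat.card_congr
        { toFun := fun g => ⟨((g₀⁻¹ * g.1 : N) : G), (L.ker_img hC _).1 (by
            rw [map_mul, map_inv, g.2, hg₀, inv_mul_cancel])⟩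
          invFun := fun r => ⟨g₀ * ⟨r, L.le r.2⟩, by
            rw [map_mul, hg₀, (L.ker_img hC ⟨r, L.le r.2⟩).2 r.2, mul_one]⟩
          left_inv := fun g => Subtype.ext (Subtype.ext (mul_inv_cancel_left (g₀ : G) (g.1 : G)))
          right_inv := fun r => Subtype.ext (inv_mul_cancel_left (g₀ : G) (r : G)) }
    obtain ⟨g, hg⟩ := Equiv.Perm.exists_fixed_point_of_prime (p := p) (n := e) (by
      rw [hcard]
      haveI : Fact (Nat.Prime 2) := ⟨Nat.prime_two⟩
      obtain ⟨k, hk⟩ := L.two.exists_card_eq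
      rw [hk]
      exact fun h => hp2 ((Nat.prime_dvd_prime_iff_eq hp Nat.prime_two).1 (hp.dvd_of_dvd_pow h))) hσp
    have hgn : Commute (n : G) (g.1 : G) := by
      have := congrArg (fun g : {g : N // img L g = a} => (g.1 : G)) hg
      exact mul_inv_eq_iff_eq_mul.1 this
    have hgP : IsPGroup 2 (zpowers (g.1 : G)) := by
      obtain ⟨k, hk⟩ := L.two ⟨((g.1 * g.1 : N) : G), (L.ker_img hC _).1 (by
        rw [map_mul, g.2, mul_self_of_orderOf ha])⟩
      have hk' : ((g.1 : G) * g.1) ^ 2 ^ k = 1 := congrArg Subtype.val hk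
      intro x
      obtain ⟨i, hi⟩ := x.2
      refine ⟨k + 1, Subtype.ext ?_⟩
      rw [SubmonoidClass.coe_pow, OneMemClass.coe_one, ← hi, ← zpow_natCast, ← zpow_mul, mul_comm,
        zpow_mul, zpow_natCast, pow_succ', pow_mul, pow_two, hk', one_zpow]
    have hg1 : (g.1 : G) ≠ 1 := fun e1 => by
      have : a = 1 := by rw [← g.2, show g.1 = 1 from Subtype.ext e1, map_one]
      rw [this, orderOf_one] at ha
      omega
    refine hzm ?_
    rw [← hnz, show n = 1 from Subtype.ext (eq_one_of_odd_commute hC hgP (mem_zpowers _) hg1 hgn ?_),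
      map_one]
    obtain ⟨i, -, hi⟩ := (Nat.dvd_prime_pow hp).1 (orderOf_dvd_of_pow_eq_one
      (show (n : G) ^ p ^ e = 1 from congrArg Subtype.val hnp))
    rw [hi]
    exact (hp.odd_of_ne_two hp2).pow
  · intro M hM hM2
    haveI := hM
    have hker : IsPGroup 2 (img L).ker := fun n => by
      obtain ⟨k, hk⟩ := L.two ⟨((n : N) : G), (L.ker_img hC _).1 n.2⟩
      refine ⟨k, Subtype.ext (Subtype.ext ?_)⟩
      simpa using congrArg Subtype.val hk
    have hle := L.max ((M.comap (img L)).map N.subtype) (map_subtype_le _)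
      ((hM2.comap_of_ker_isPGroup (img L) hker).map _) fun n hn => ?_
    · refine eq_bot_iff.2 fun y hy => ?_
      obtain ⟨n, rfl⟩ := img_surjective L y
      exact mem_bot.2 ((L.ker_img hC n).2 (hle ⟨n, hy, rfl⟩))
    · refine cj_eq_self_iff.1 ?_
      ext x
      rw [mem_cj]
      constructor
      · rintro ⟨k, hk, e⟩
        refine ⟨⟨n, hn⟩ * k * ⟨n, hn⟩⁻¹, (M.normal_comap (img L)).conj_mem k hk _, ?_⟩
        simp only [subtype_apply] at e
        simp [e, mul_assoc]
      · rintro ⟨k, hk, rfl⟩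
        refine ⟨⟨n, hn⟩⁻¹ * k * ⟨n, hn⟩, ?_, by simp⟩
        simpa using (M.normal_comap (img L)).conj_mem k hk (⟨n, hn⟩ : N)⁻¹

omit hC in
/-- The image of a subgroup of `N` in the induced group. -/
theorem mem_map_img {B : Subgroup G} {y : Img L} :
    y ∈ (B.subgroupOf N).map (img L) ↔ ∃ b : N, (b : G) ∈ B ∧ img L b = y := by
  simp only [mem_map, mem_subgroupOf]

variable {B : Subgroup G} (hB : OffIn N Q B)
include hB

theorem card_fix : Nat.card (fixOf (VV Q) ((B.subgroupOf N).map (img L))) =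
    Nat.card (VV Q ⊓ centralizer (B : Set G) : Subgroup G) := by
  refine Nat.card_congr
    { toFun := fun v => ⟨(v : G), (v : VV Q).2, mem_centralizer_iff.2 fun b hb => ?_⟩
      invFun := fun v => ⟨⟨v, v.2.1⟩, fun y hy => ?_⟩
      left_inv := fun v => rfl
      right_inv := fun v => rfl }
  · have := congrArg Subtype.val (v.2 _ ((L.mem_map_img).2 ⟨⟨b, hB.le hb⟩, hb, rfl⟩))
    rw [img_smul] at this
    exact mul_inv_eq_iff_eq_mul.1 this
  · obtain ⟨b, hb, rfl⟩ := L.mem_map_img.1 hy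
    refine Subtype.ext ?_
    rw [img_smul]
    exact mul_inv_eq_iff_eq_mul.2 (mem_centralizer_iff.1 v.2.2 _ hb)

theorem offender : Offender (VV Q) ((B.subgroupOf N).map (img L)) := by
  refine ⟨fun e => hB.nle fun b hb => (L.ker_img hC ⟨b, hB.le hb⟩).1 (mem_bot.1 (e ▸ L.mem_map_img.2
    ⟨⟨b, hB.le hb⟩, hb, rfl⟩)), fun y hy => ?_, fun y hy v c hc => ?_, ?_⟩
  · obtain ⟨b, hb, rfl⟩ := L.mem_map_img.1 hy
    rw [← map_mul, show b * b = 1 from Subtype.ext (hB.ea _ hb), map_one]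
  · obtain ⟨b, hb, rfl⟩ := L.mem_map_img.1 hy
    obtain ⟨c, hcB, rfl⟩ := L.mem_map_img.1 hc
    refine Subtype.ext ?_
    rw [img_smul, coe_mul, img_smul]
    exact mul_inv_eq_iff_eq_mul.2 (hB.quad _ hb _ hcB _ v.2).eq
  · rw [L.card_fix hC hB]
    refine Nat.le_of_mul_le_mul_right ?_ (Nat.card_pos (α := (B ⊓ Q : Subgroup G)))
    refine hB.big.trans (le_of_eq ?_)
    rw [← Nat.card_congr (subgroupOfEquivOfLe hB.le).toEquiv,
      ← card_inf_mul_card_map (img L) (B.subgroupOf N), L.card_ker_inf hC,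
      subgroupOf_map_subtype, inf_of_le_left hB.le]
    ring

end Loc

/-- An offender on `Ω₁(Z(Q))` inside a Sylow `2`-subgroup `T` of `N` gives the parabolic structure. -/
theorem par_of_offIn [Finite G] (hC : CIT G) {N Q T B : Subgroup G} (L : Loc N Q) (hT : T ≤ N)
    (hT2 : IsPGroup 2 T) (hsyl : ∀ P : Subgroup G, P ≤ N → IsPGroup 2 P → T ≤ P → P = T)
    (hBT : B ≤ T) (hB : OffIn N Q B) :
    ∃ q, Par N Q T q ∧ Nat.card B = q * Nat.card (B ⊓ Q : Subgroup G) ∧
      VV Q ⊓ centralizer (B : Set G) = VV Q ⊓ centralizer (T : Set G) := by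
  have H := L.fpfAct hC
  have O := L.offender hC hB
  set Bb := (B.subgroupOf N).map (img L) with hBb
  have hQT : Q ≤ T := by
    have h := hsyl (T ⊔ Q) (sup_le hT L.le) (hT2.to_sup_of_normal_right' L.two (hT.trans L.norm))
      le_sup_left
    exact h ▸ le_sup_right
  have hTb : (T.subgroupOf N).map (img L) = Bb :=
    O.eq_of_isPGroup H ((hT2.comap_subtype).map _) (map_mono (comap_mono hBT))
  have hTmem : ∀ a : N, (a : G) ∈ T → img L a ∈ Bb := fun a ha => hTb ▸ L.mem_map_img.2 ⟨a, ha, rfl⟩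
  set q := Nat.card Bb with hq
  have hcardT : Nat.card T = q * Nat.card Q := by
    have := card_inf_mul_card_map (img L) (T.subgroupOf N)
    rw [L.card_ker_inf hC, hTb, subgroupOf_map_subtype, inf_of_le_left hT, inf_of_le_right hQT,
      Nat.card_congr (subgroupOfEquivOfLe hT).toEquiv] at this
    rw [← this, mul_comm]
  have hcardB : Nat.card B = q * Nat.card (B ⊓ Q : Subgroup G) := by
    have := card_inf_mul_card_map (img L) (B.subgroupOf N)
    rw [L.card_ker_inf hC, subgroupOf_map_subtype, inf_of_le_left hB.le,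
      Nat.card_congr (subgroupOfEquivOfLe hB.le).toEquiv] at this
    rw [← this, mul_comm]
  have hfix : ∀ {v : G} (hv : v ∈ VV Q),
      (⟨v, hv⟩ : VV Q) ∈ fixOf (VV Q) Bb ↔ v ∈ centralizer (T : Set G) := by
    intro v hv
    refine ⟨fun h => mem_centralizer_iff.2 fun t ht => ?_, fun h y hy => ?_⟩
    · have := congrArg Subtype.val (h _ (hTmem ⟨t, hT ht⟩ ht))
      rw [img_smul] at this
      exact mul_inv_eq_iff_eq_mul.1 this
    · rw [← hTb] at hy
      obtain ⟨t, ht, rfl⟩ := L.mem_map_img.1 hy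
      refine Subtype.ext ?_
      rw [img_smul]
      exact mul_inv_eq_iff_eq_mul.2 (mem_centralizer_iff.1 h _ ht)
  have hWB : VV Q ⊓ centralizer (B : Set G) = VV Q ⊓ centralizer (T : Set G) := by
    refine le_antisymm (fun v hv => ⟨hv.1, (hfix hv.1).1 fun y hy => ?_⟩)
      (inf_le_inf_left _ (centralizer_le hBT))
    obtain ⟨b, hb, rfl⟩ := L.mem_map_img.1 hy
    refine Subtype.ext ?_
    rw [img_smul]
    exact mul_inv_eq_iff_eq_mul.2 (mem_centralizer_iff.1 hv.2 _ hb)
  have hcardW : Nat.card (VV Q ⊓ centralizer (T : Set G) : Subgroup G) = q := by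
    rw [← hWB, ← L.card_fix hC hB, ← O.card_eq H]
  have ha_ne : ∀ (a : N), (a : G) ∉ Q → img L a ≠ 1 := fun a ha e => ha ((L.ker_img hC a).1 e)
  refine ⟨q, ⟨L, hT, hT2, hQT, hsyl, hcardT, O.two_le_card H, ?_, hcardW, ?_, ?_, ?_, ?_, ?_⟩,
    hcardB, hWB⟩
  · rw [hq, O.card_eq H, O.card_sq H]
  · intro a ha haQ v hv hav
    refine (hfix hv).1 ((O.fixed_iff H (hTmem ⟨a, hT ha⟩ ha) (ha_ne _ haQ)).1 (Subtype.ext ?_))
    rw [img_smul]
    exact mul_inv_eq_iff_eq_mul.2 hav.eq
  · intro a ha v hv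
    exact (hfix (mul_mem hv ((mem_normalizer_iff.1 (L.le_normalizer_VV (hT ha)) v).1 hv))).1
      (O.quad _ (hTmem ⟨a, hT ha⟩ ha) ⟨v, hv⟩)
  · intro a ha haQ w hw
    have h1 := H.invol (Offender.orderOf_eq_two (O.ea _ (hTmem ⟨a, hT ha⟩ ha)) (ha_ne _ haQ))
    have hwk : (⟨w, hw.1⟩ : VV Q) ∈ (delta (VV Q) (img L ⟨a, hT ha⟩)).range := by
      rw [h1.1, O.ker_eq H (hTmem ⟨a, hT ha⟩ ha) (ha_ne _ haQ)]
      exact (hfix hw.1).2 hw.2
    obtain ⟨v, hv⟩ := hwk
    exact ⟨v, v.2, (congrArg Subtype.val hv).symm⟩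
  · intro a ha
    have := O.ea _ (hTmem ⟨a, hT ha⟩ ha)
    rw [← map_mul] at this
    exact (L.ker_img hC _).1 this
  · obtain ⟨y, hy, hyW⟩ := O.exists_three H
    haveI : Fact (Nat.Prime 3) := ⟨Nat.prime_three⟩
    obtain ⟨n₀, hn₀⟩ := img_surjective L y
    have h3 : 3 ∣ orderOf (n₀ : G) := by
      rw [← hy, ← hn₀, Subgroup.orderOf_coe]
      exact orderOf_map_dvd _ n₀
    obtain ⟨e, m, hm, hd⟩ := Nat.exists_eq_pow_mul_and_not_dvd (orderOf_pos (n₀ : G)).ne' 3 (by decide)
    set x := n₀ ^ m with hx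
    have hxo : orderOf (x : G) = 3 ^ e := by
      rw [hx, SubmonoidClass.coe_pow, orderOf_pow_of_dvd (fun h : m = 0 => hm (by rw [h]; exact dvd_zero 3))
        ⟨3 ^ e, by rw [hd, mul_comm]⟩, hd, mul_comm, Nat.mul_div_cancel_left]
      exact Nat.pos_of_ne_zero fun h => hm (by rw [h]; exact dvd_zero 3)
    have himg : img L x = y ^ m := by rw [hx, map_pow, hn₀]
    have hx3 : (x : G) ^ 3 = 1 := by
      have hQ : ((x ^ 3 : N) : G) ∈ Q := (L.ker_img hC _).1 (by
        rw [map_pow, himg, ← pow_mul, mul_comm, pow_mul, ← hy, pow_orderOf_eq_one, one_pow])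
      rw [SubmonoidClass.coe_pow] at hQ
      refine eq_one_of_odd_mem L.two hQ ?_
      refine Odd.of_dvd_nat ?_ (orderOf_pow_dvd 3)
      rw [hxo]
      exact Odd.pow (by decide)
    have hym : y ^ m ≠ 1 := fun h => hm (hy ▸ orderOf_dvd_of_pow_eq_one h)
    refine ⟨x, x.2, orderOf_eq_prime hx3 fun h1 => hym ?_, fun w hw hxw => ?_⟩
    · rw [← himg, show x = 1 from Subtype.ext h1, map_one]
    · have hm2 := (hfix ((mem_normalizer_iff.1 (L.le_normalizer_VV x.2) w).1 hw.1)).2 hxw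
      have hwm : (⟨w, hw.1⟩ : VV Q) ∈ fixOf (VV Q) Bb := (hfix hw.1).2 hw.2
      have key : y ^ m = y ∨ y ^ m = y⁻¹ := by
        rw [← pow_mod_orderOf, hy]
        have : m % 3 = 1 ∨ m % 3 = 2 := by omega
        rcases this with h | h <;> rw [h]
        · exact Or.inl (pow_one y)
        · refine Or.inr (eq_inv_of_mul_eq_one_left ?_)
          rw [← pow_succ, show 2 + 1 = orderOf y from hy.symm, pow_orderOf_eq_one]
      have hsm : y ^ m • (⟨w, hw.1⟩ : VV Q) ∈ fixOf (VV Q) Bb := by rw [← himg]; exact hm2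
      rcases key with h | h
      · exact congrArg Subtype.val (hyW _ hwm (h ▸ hsm))
      · rw [h] at hsm
        have := hyW _ hsm (by rw [smul_inv_smul]; exact hwm)
        rw [inv_smul_eq_iff, smul_one] at this
        exact congrArg Subtype.val this

end Cfsg.Agent.CITPair
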