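import Cfsg.Agent.CITPair.Four
import Cfsg.Agent.CITSolv.Main

/-!
# A configuration with `q = 2` forces a dihedral Sylow 2-subgroup
-/

set_option autoImplicit false

namespace Cfsg.Agent.CITPair

open Subgroup

universe u

variable {G : Type u} [Group G] [Finite G] [IsSimpleGroup G]

theorem Config.psl2 (hna : ∃ a b : G, a * b ≠ b * a) (hC : CIT G) {T V V' : Subgroup G}
    (C : Config T V V' 2) :
    ∃ (F : Type) (_ : Field F) (_ : Fintype F),
      (Fintype.card F = 9 ∨ (∃ n : ℕ, Fintype.card F = 2 ^ n) ∨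
        ((Fintype.card F).Prime ∧ ∃ k : ℕ, Fintype.card F = 2 ^ k + 1 ∨ Fintype.card F + 1 = 2 ^ k)) ∧
      Nonempty (G ≃* Matrix.ProjectiveSpecialLinearGroup (Fin 2) F) := by
  classical
  have h4 : Nat.card V = 4 := by rw [C.eqV, C.par.cardV]
  haveI : Nontrivial V := Finite.one_lt_card_iff_nontrivial.1 (by omega)
  obtain ⟨a, ha⟩ := exists_ne (1 : V)
  obtain ⟨b, hb1, hba⟩ : ∃ b : V, b ≠ 1 ∧ b ≠ a := by
    by_contra! hall
    have : Nat.card V ≤ 2 := by
      rw [← Set.ncard_univ, ← Set.ncard_pair ha.symm]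
      exact Set.ncard_le_ncard (fun v _ => (em (v = 1)).elim Or.inl fun hv => Or.inr (hall v hv))
    omega
  have ho : ∀ v : V, v ≠ 1 → orderOf (v : G) = 2 := fun v hv =>
    orderOf_eq_prime (by rw [pow_two]; exact C.exp v.2) fun e => hv (Subtype.ext e)
  have hVset : ∀ g : G, g ∈ V → g = 1 ∨ g = (a : G) ∨ g = b ∨ g = (a : G) * b := by
    intro g hg
    haveI := Fintype.ofFinite V
    have hab1 : a * b ≠ 1 := fun e => hba (by
      have := C.exp a.2
      exact Subtype.ext (mul_left_cancel (a := (a : G))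
        ((congrArg Subtype.val e : (a : G) * b = 1).trans this.symm)))
    have hset : ({1, a, b, a * b} : Finset V) = Finset.univ := by
      refine Finset.eq_univ_of_card _ ?_
      rw [← Nat.card_eq_fintype_card, h4, Finset.card_insert_of_notMem, Finset.card_insert_of_notMem,
        Finset.card_pair]
      · exact fun e => ha (by rwa [eq_comm, mul_eq_right] at e)
      · simp only [Finset.mem_insert, Finset.mem_singleton, not_or]
        exact ⟨hba.symm, fun e => hb1 (by rwa [eq_comm, mul_eq_left] at e)⟩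
      · simp only [Finset.mem_insert, Finset.mem_singleton, not_or]
        exact ⟨ha.symm, hb1.symm, hab1.symm⟩
    have hm : (⟨g, hg⟩ : V) ∈ ({1, a, b, a * b} : Finset V) := hset ▸ Finset.mem_univ _
    simpa only [Finset.mem_insert, Finset.mem_singleton, Subtype.ext_iff, coe_mul, coe_one] using hm
  have hC2 : ∀ g : G, Commute g a → Commute g b → g ∈ V := by
    intro g hga hgb
    have hcv : ∀ v ∈ V, Commute g v := fun v hv => by
      rcases hVset v hv with rfl | rfl | rfl | rfl
      · exact Commute.one_right g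
      · exact hga
      · exact hgb
      · exact hga.mul_right hgb
    refine C.par.loc.mem_of_centralizes hC (mem_normalizer_iff.2 fun x => ?_)
      fun v hv => hcv v (VV_le V hv)
    refine ⟨fun hx => ?_, fun hx => ?_⟩
    · rw [(hcv x hx).eq, mul_inv_cancel_right]
      exact hx
    · have := (hcv _ hx).eq
      rw [show x = g * x * g⁻¹ from mul_left_cancel (a := g) (by
        calc g * x = g * x * g⁻¹ * g := by group
          _ = g * (g * x * g⁻¹) := this.symm)]
      exact hx
  obtain ⟨F, iF, iFF, h, e⟩ := CITSolv.of_four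
    (fun h => by obtain ⟨x, y, hxy⟩ := hna; exact hxy (h.is_comm.comm x y)) hC (ho a ha) (ho b hb1)
    (fun e => hba (Subtype.ext e).symm) (C.comm a.2 b.2).eq fun g hga hgb => hVset g (hC2 g hga hgb)
  refine ⟨F, iF, iFF, ?_, e⟩
  rcases h with h | ⟨hp, k, hk | hk⟩
  · exact Or.inl h
  · exact Or.inr (Or.inr ⟨hp, k, Or.inl hk⟩)
  · exact Or.inr (Or.inr ⟨hp, k, Or.inr (by have := Nat.one_le_two_pow (n := k); omega)⟩)

end Cfsg.Agent.CITPair
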