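import Cfsg.Agent.CITPair.TI
import Cfsg.Agent.CITPair.FourMain
import Cfsg.Agent.CITPair.Two
import Cfsg.Agent.SuzukiUniq.TI

/-!
# Reduction of the classification of simple CIT groups to the `L3(4)` configuration
-/

set_option autoImplicit false

namespace Cfsg.Agent.CITPair

open Subgroup

universe u

theorem classification_of {G : Type u} [Group G] [Finite G] [IsSimpleGroup G]
    (hna : ∃ a b : G, a * b ≠ b * a)
    (hCIT : ∀ t : G, orderOf t = 2 → IsPGroup 2 (centralizer ({t} : Set G)))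
    (h34 : ∀ T V V' : Subgroup G, Config T V V' 4 →
      ∃ (F : Type) (_ : Field F) (_ : Fintype F), Fintype.card F = 4 ∧
        Nonempty (G ≃* Matrix.ProjectiveSpecialLinearGroup (Fin 3) F)) :
    (∃ (F : Type) (_ : Field F) (_ : Fintype F),
        (Fintype.card F = 9 ∨ (∃ n : ℕ, Fintype.card F = 2 ^ n) ∨
          ((Fintype.card F).Prime ∧ ∃ k : ℕ, Fintype.card F = 2 ^ k + 1 ∨ Fintype.card F + 1 = 2 ^ k)) ∧
        Nonempty (G ≃* Matrix.ProjectiveSpecialLinearGroup (Fin 2) F)) ∨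
    (∃ (F : Type) (_ : Field F) (_ : Fintype F), Fintype.card F = 4 ∧
        Nonempty (G ≃* Matrix.ProjectiveSpecialLinearGroup (Fin 3) F)) ∨
    Cfsg.Lie.IsoSuzuki G := by
  classical
  haveI : Fact (Nat.Prime 2) := ⟨Nat.prime_two⟩
  obtain ⟨S⟩ : Nonempty (Sylow 2 G) := inferInstance
  by_cases hTI : ∀ g : G, g ∉ normalizer ((S : Subgroup G) : Set G) →
      (S : Subgroup G) ⊓ cj g (S : Subgroup G) = ⊥
  · rcases SuzukiUniq.hyp_iso (hyp_of_ti hCIT hna S hTI) with ⟨F, iF, iFF, h2, -, -, e⟩ | h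
    · refine Or.inl ⟨F, iF, iFF, Or.inr (Or.inl ?_), e⟩
      obtain ⟨n, -, hn⟩ := FiniteField.card F 2
      exact ⟨n, hn⟩
    · exact Or.inr (Or.inr h)
  · push Not at hTI
    obtain ⟨T, V, V', q, C⟩ := exists_config hCIT hna S hTI
    rcases Nat.lt_or_ge q 3 with h | h
    · obtain rfl : q = 2 := by have := C.par.two_le; omega
      exact Or.inl (C.psl2 hna hCIT)
    · obtain rfl : q = 4 := C.q_eq_four hCIT h
      exact Or.inr (Or.inl (h34 T V V' C))

end Cfsg.Agent.CITPair
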