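import Cfsg.Agent.CITPair.Pair
import Cfsg.Agent.CITPair.Embedded

/-!
# A maximal intersection of a subgroup containing a Sylow 2-normaliser with a 2-local
-/

set_option autoImplicit false

namespace Cfsg.Agent.CITPair

open Subgroup

universe u

variable {G : Type u} [Group G]

/-- The join of the elementary abelian subgroups of largest order of `T`. -/
def JJ (T : Subgroup G) : Subgroup G := sSup {A | MaxEA T A}

theorem JJ_le (T : Subgroup G) : JJ T ≤ T := sSup_le fun _ hA => hA.le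

theorem cj_JJ (g : G) (T : Subgroup G) : cj g (JJ T) = JJ (cj g T) := by
  refine le_antisymm ?_ (sSup_le fun A hA => ?_)
  · rw [cj, map_le_iff_le_comap]
    exact sSup_le fun A hA => map_le_iff_le_comap.1 (le_sSup (hA.conj g))
  · have h := hA.conj g⁻¹
    rw [← cj_mul, inv_mul_cancel, cj_one] at h
    have := cj_le_cj (g := g) (le_sSup h : cj g⁻¹ A ≤ JJ T)
    rwa [← cj_mul, mul_inv_cancel, cj_one] at this

theorem normalizer_le_JJ (T : Subgroup G) :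
    normalizer (T : Set G) ≤ normalizer (JJ T : Set G) := fun g hg => by
  rw [← cj_eq_self_iff, cj_JJ, cj_eq_self_iff.2 hg]

theorem MaxEA.ne_bot {T A : Subgroup G} (h : MaxEA T A) [Finite G] (hT : IsPGroup 2 T)
    (hne : T ≠ ⊥) : A ≠ ⊥ := by
  rintro rfl
  obtain ⟨t, ht, hto⟩ := exists_invol hT hne
  have h1 := h.max (zpowers t) (zpowers_le.2 ht)
    (Thompson.ea_zpowers (hto ▸ pow_orderOf_eq_one t))
  rw [Nat.card_zpowers, hto, card_bot] at h1
  omega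

theorem JJ_ne_bot [Finite G] {T : Subgroup G} (hT : IsPGroup 2 T) (hne : T ≠ ⊥) : JJ T ≠ ⊥ := by
  obtain ⟨A, hA⟩ := exists_maxEA T
  exact fun e => hA.ne_bot hT hne (le_bot_iff.1 (e ▸ le_sSup hA))

theorem JJ_eq_of_forall_le [Finite G] {Q T : Subgroup G} (hQT : Q ≤ T)
    (h : ∀ A, MaxEA T A → A ≤ Q) : JJ Q = JJ T := by
  obtain ⟨A₀, hA₀⟩ := exists_maxEA T
  refine le_antisymm (sSup_le fun A hA => le_sSup ?_) (sSup_le fun A hA => le_sSup ?_)
  · exact ⟨hA.le.trans hQT, hA.ea, fun B hB hBe =>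
      (hA₀.max B hB hBe).trans (hA.max A₀ (h A₀ hA₀) hA₀.ea)⟩
  · exact ⟨h A hA, hA.ea, fun B hB hBe => hA.max B (hB.trans hQT) hBe⟩

theorem cj_le_self {H : Subgroup G} {h : G} (hh : h ∈ H) : cj h H = H :=
  cj_eq_self_iff.2 (le_normalizer hh)

theorem le_iff_cj_le {A B : Subgroup G} (g : G) : cj g A ≤ cj g B ↔ A ≤ B := by
  refine ⟨fun h => ?_, cj_le_cj⟩
  have := cj_le_cj (g := g⁻¹) h
  rwa [← cj_mul, inv_mul_cancel, cj_one, ← cj_mul, inv_mul_cancel, cj_one] at this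

theorem Loc.exists_of_normal [Finite G] {N R : Subgroup G} (hR : R ≠ ⊥) (hR2 : IsPGroup 2 R)
    (hRN : R ≤ N) (hn : N ≤ normalizer (R : Set G)) : ∃ Q, Loc N Q ∧ R ≤ Q := by
  haveI : Fact (Nat.Prime 2) := ⟨Nat.prime_two⟩
  obtain ⟨Q, hQ, hmax⟩ := Set.exists_max_image
    {M : Subgroup G | R ≤ M ∧ M ≤ N ∧ IsPGroup 2 M ∧ N ≤ normalizer (M : Set G)}
    (fun M => Nat.card M) (Set.toFinite _) ⟨R, le_rfl, hRN, hR2, hn⟩
  obtain ⟨hRQ, hQN, hQ2, hQn⟩ := hQ
  refine ⟨Q, ⟨fun e => hR (le_bot_iff.1 (e ▸ hRQ)), hQ2, hQN, hQn, fun M hM hM2 hMn => ?_⟩, hRQ⟩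
  have hsup : N ≤ normalizer ((Q ⊔ M : Subgroup G) : Set G) := fun g hg => by
    rw [← cj_eq_self_iff, cj, Subgroup.map_sup]
    exact congrArg₂ (· ⊔ ·) (cj_eq_self_iff.2 (hQn hg)) (cj_eq_self_iff.2 (hMn hg))
  have h := hmax (Q ⊔ M) ⟨hRQ.trans le_sup_left, sup_le hQN hM,
    hQ2.to_sup_of_normal_left' hM2 (hM.trans hQn), hsup⟩
  rw [eq_of_le_of_card_ge le_sup_left h]
  exact le_sup_right

/-- `H` together with a 2-local `N` not inside `H` whose Sylow 2-subgroup `T` lies in `H` and is as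
large as possible. -/
structure Step (H N Q T : Subgroup G) : Prop where
  loc : Loc N Q
  TH : T ≤ H
  TN : T ≤ N
  two : IsPGroup 2 T
  syl : ∀ P : Subgroup G, P ≤ N → IsPGroup 2 P → T ≤ P → P = T
  nle : ¬ N ≤ H
  ne : T ≠ Q
  normT : normalizer (T : Set G) ≤ H
  key : ∀ U : Subgroup G, U ≠ ⊥ → U ≤ H → IsPGroup 2 U → ¬ normalizer (U : Set G) ≤ H →
    ∀ P : Subgroup G, T ≤ P → IsPGroup 2 P → P ≤ H → P ≤ normalizer (U : Set G) → P = T

theorem exists_le_cj [Finite G] {S : Sylow 2 G} {H : Subgroup G} (hS : (S : Subgroup G) ≤ H)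
    {P : Subgroup G} (hP : P ≤ H) (hP2 : IsPGroup 2 P) : ∃ h ∈ H, P ≤ cj h (S : Subgroup G) := by
  haveI : Fact (Nat.Prime 2) := ⟨Nat.prime_two⟩
  obtain ⟨P', hP'⟩ := (hP2.comap_subtype (K := H)).exists_le_sylow
  obtain ⟨h, hh⟩ := MulAction.exists_smul_eq H (S.subtype hS) P'
  refine ⟨h, h.2, fun p hp => ?_⟩
  have h1 : (⟨p, hP hp⟩ : H) ∈ (P' : Subgroup H) := hP' hp
  rw [← hh, Sylow.coe_subgroup_smul, mem_pointwise_smul_iff_inv_smul_mem] at h1
  rw [mem_cj]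
  simpa [MulAut.smul_def, mem_subgroupOf] using h1

open scoped Pointwise in
theorem exists_step [Finite G] {S : Sylow 2 G} {H : Subgroup G} (hS : (S : Subgroup G) ≤ H)
    (hN : normalizer ((S : Subgroup G) : Set G) ≤ H) {R : Subgroup G} (hR : R ≤ H)
    (hR2 : IsPGroup 2 R) (hR1 : R ≠ ⊥) (hRn : ¬ normalizer (R : Set G) ≤ H) :
    ∃ N Q T, Step H N Q T := by
  haveI : Fact (Nat.Prime 2) := ⟨Nat.prime_two⟩
  obtain ⟨T, hT, hmax⟩ := Set.exists_max_image
    {T : Subgroup G | ∃ R, R ≠ ⊥ ∧ R ≤ T ∧ T ≤ H ∧ IsPGroup 2 T ∧ T ≤ normalizer (R : Set G) ∧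
      ¬ normalizer (R : Set G) ≤ H}
    (fun T => Nat.card T) (Set.toFinite _) ⟨R, R, hR1, le_rfl, hR, hR2, le_normalizer, hRn⟩
  obtain ⟨R, hR1, hRT, hTH, hT2, hTn, hRn⟩ := hT
  have key : ∀ U : Subgroup G, U ≠ ⊥ → U ≤ H → IsPGroup 2 U → ¬ normalizer (U : Set G) ≤ H →
      ∀ P : Subgroup G, T ≤ P → IsPGroup 2 P → P ≤ H → P ≤ normalizer (U : Set G) → P = T := by
    intro U hU hUH hU2 hUn P hTP hP2 hPH hPn
    have h := hmax (P ⊔ U) ⟨U, hU, le_sup_right, sup_le hPH hUH,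
      hP2.to_sup_of_normal_right' hU2 hPn, sup_le hPn le_normalizer, hUn⟩
    have h' := eq_of_le_of_card_ge (hTP.trans le_sup_left) h
    exact le_antisymm (h' ▸ le_sup_left) hTP
  have hT1 : T ≠ ⊥ := fun e => hR1 (le_bot_iff.1 (e ▸ hRT))
  have grow : ∀ g : G, g ∈ normalizer (T : Set G) → ∀ P : Subgroup G, IsPGroup 2 P → g ∈ P →
      IsPGroup 2 (T ⊔ zpowers g : Subgroup G) ∧ T ⊔ zpowers g ≤ normalizer (T : Set G) :=
    fun g hg P hP hgP => ⟨hT2.to_sup_of_normal_left' (hP.to_le (zpowers_le.2 hgP)) (zpowers_le.2 hg),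
      sup_le le_normalizer (zpowers_le.2 hg)⟩
  have hNT : normalizer (T : Set G) ≤ H := by
    by_contra hNT
    obtain ⟨h, hh, hTS⟩ := exists_le_cj hS hTH hT2
    rcases eq_or_lt_of_le hTS with e | hlt
    · refine hNT ?_
      rw [e, cj_normalizer]
      exact (cj_le_cj hN).trans (cj_le_self hh).le
    · obtain ⟨g, hgP, hgT, hg⟩ := exists_normalizing (isPGroup_cj S.2) hlt
      obtain ⟨h1, h2⟩ := grow g hg _ (isPGroup_cj S.2) hgP
      have := key T hT1 hTH hT2 hNT _ le_sup_left h1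
        (sup_le hTH (zpowers_le.2 ((cj_le_self hh) ▸ cj_le_cj hS hgP))) h2
      exact hgT (this ▸ mem_sup_right (mem_zpowers g))
  obtain ⟨Q, L, hRQ⟩ := Loc.exists_of_normal (N := normalizer (R : Set G)) hR1
    (hT2.to_le hRT) le_normalizer le_rfl
  refine ⟨normalizer (R : Set G), Q, T, L, hTH, hTn, hT2, ?_, hRn, ?_, hNT, key⟩
  · intro P hPN hP2 hTP
    by_contra hne
    obtain ⟨g, hgP, hgT, hg⟩ := exists_normalizing hP2 (lt_of_le_of_ne hTP (Ne.symm hne))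
    obtain ⟨h1, h2⟩ := grow g hg P hP2 hgP
    have := key R hR1 (hRT.trans hTH) (hT2.to_le hRT) hRn _ le_sup_left h1
      (sup_le hTH (zpowers_le.2 (hNT hg))) (sup_le hTn (zpowers_le.2 (hPN hgP)))
    exact hgT (this ▸ mem_sup_right (mem_zpowers g))
  · rintro rfl
    exact hRn (L.norm.trans hNT)

namespace Step

variable {H N Q T : Subgroup G} (St : Step H N Q T) [Finite G]
include St

theorem Qle : Q ≤ T := by
  have h := St.syl (T ⊔ Q) (sup_le St.TN St.loc.le)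
    (St.two.to_sup_of_normal_right' St.loc.two (St.TN.trans St.loc.norm)) le_sup_left
  exact h ▸ le_sup_right

theorem syl_normalizer {U : Subgroup G} (hU : U ≠ ⊥) (hUT : U ≤ T)
    (hUn : ¬ normalizer (U : Set G) ≤ H) (hTU : T ≤ normalizer (U : Set G)) :
    ∀ P : Subgroup G, P ≤ normalizer (U : Set G) → IsPGroup 2 P → T ≤ P → P = T := by
  haveI : Fact (Nat.Prime 2) := ⟨Nat.prime_two⟩
  intro P hPN hP2 hTP
  by_contra hne
  obtain ⟨g, hgP, hgT, hg⟩ := exists_normalizing hP2 (lt_of_le_of_ne hTP (Ne.symm hne))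
  have := St.key U hU (hUT.trans St.TH) (St.two.to_le hUT) hUn (T ⊔ zpowers g) le_sup_left
    (St.two.to_sup_of_normal_left' (hP2.to_le (zpowers_le.2 hgP)) (zpowers_le.2 hg))
    (sup_le St.TH (zpowers_le.2 (St.normT hg))) (sup_le hTU (zpowers_le.2 (hPN hgP)))
  exact hgT (this ▸ mem_sup_right (mem_zpowers g))

/-- No element of a `2`-group of `H` outside `T` normalises `T` and a subgroup of `T` with normaliser
outside `H`. -/
theorem false_of_normalizing {U : Subgroup G} (hU : U ≠ ⊥) (hUT : U ≤ T)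
    (hUn : ¬ normalizer (U : Set G) ≤ H) (hTU : T ≤ normalizer (U : Set G)) {P : Subgroup G}
    (hP : IsPGroup 2 P) {g : G} (hgP : g ∈ P) (hgT : g ∉ T) (hg : g ∈ normalizer (T : Set G))
    (hgU : g ∈ normalizer (U : Set G)) : False := by
  haveI : Fact (Nat.Prime 2) := ⟨Nat.prime_two⟩
  have := St.syl_normalizer hU hUT hUn hTU (T ⊔ zpowers g) (sup_le hTU (zpowers_le.2 hgU))
    (St.two.to_sup_of_normal_left' (hP.to_le (zpowers_le.2 hgP)) (zpowers_le.2 hg)) le_sup_left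
  exact hgT (this ▸ mem_sup_right (mem_zpowers g))

end Step

end Cfsg.Agent.CITPair
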